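import Groth.Agent.L02.CAlg.Horrocks.Local

/-!
Horrocks' theorem over a local ring.
-/

set_option autoImplicit false

open Polynomial IsLocalRing Matrix LaurentPolynomial

namespace L02.CAlg.Horrocks

variable {A : Type*} [CommRing A] [IsLocalRing A]

theorem mem_mP_iff_map_residue {p : A[X]} : p ∈ mP A ↔ p.map (residue A) = 0 := by
  rw [← Polynomial.coe_mapRingHom, ← RingHom.mem_ker, Polynomial.ker_mapRingHom, ker_residue]

theorem entriesIn_iff_map_residue {ι κ : Type*} {M : Matrix ι κ A[X]} :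
    EntriesIn (mP A) M ↔ M.map (Polynomial.mapRingHom (residue A)) = 0 :=
  ⟨fun h => Matrix.ext fun i j => mem_mP_iff_map_residue.mp (h i j),
    fun h i j => mem_mP_iff_map_residue.mpr (Matrix.ext_iff.mpr h i j)⟩

omit [IsLocalRing A] in
theorem map_toS_smul {ι κ : Type*} (p : A[X]) (M : Matrix ι κ A[X]) :
    (p • M).map toS = toS p • M.map toS := Matrix.ext fun _ _ => map_mul toS _ _

omit [IsLocalRing A] in
theorem map_toT_smul {ι κ : Type*} (p : A[X]) (M : Matrix ι κ A[X]) :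
    (p • M).map toT = toT p • M.map toT := Matrix.ext fun _ _ => map_mul toT _ _

theorem mem_smul_top_of_entries {n : ℕ} {d : Fin n → A[T;T⁻¹]} (h : ∀ i, d i ∈ mB A) :
    d ∈ maximalIdeal A • (⊤ : Submodule A (Fin n → A[T;T⁻¹])) := by
  classical
  rw [← Finset.univ_sum_single d]
  refine sum_mem fun i _ => ?_
  have h1 : d i ∈ maximalIdeal A • (⊤ : Submodule A A[T;T⁻¹]) := by
    rw [Ideal.smul_top_eq_map]; exact h i
  have h2 := Submodule.mem_map_of_mem (f := LinearMap.single A (fun _ : Fin n => A[T;T⁻¹]) i) h1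
  rw [Submodule.map_smul''] at h2
  exact Submodule.smul_mono le_rfl le_top h2

omit [IsLocalRing A] in
theorem mulVec_mem {R ι κ : Type*} [CommRing R] [Fintype κ] {I : Ideal R} {M : Matrix ι κ R}
    (h : EntriesIn I M) (v : κ → R) (i : ι) : (M *ᵥ v) i ∈ I := by
  simp only [Matrix.mulVec, dotProduct]
  exact sum_mem fun k _ => Ideal.mul_mem_right _ _ (h i k)

omit [IsLocalRing A] in
theorem mulVec_mem' {R ι κ : Type*} [CommRing R] [Fintype κ] {I : Ideal R} (M : Matrix ι κ R)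
    {v : κ → R} (h : ∀ k, v k ∈ I) (i : ι) : (M *ᵥ v) i ∈ I := by
  simp only [Matrix.mulVec, dotProduct]
  exact sum_mem fun k _ => Ideal.mul_mem_left _ _ (h k)

/-- Lifts of a basis of the special fibre. -/
theorem exists_residue_basis {n : ℕ} (E : Matrix (Fin n) (Fin n) A[X]) (hE : E * E = E) :
    ∃ (r : ℕ) (G : Matrix (Fin n) (Fin r) A[X]) (U : Matrix (Fin r) (Fin n) A[X]),
      E * G = G ∧ EntriesIn (mP A) (E - G * U) ∧
      ∀ (μ : Type) (Z : Matrix (Fin r) μ A[X]), EntriesIn (mP A) (G * Z) → EntriesIn (mP A) Z := by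
  classical
  set π := Polynomial.mapRingHom (residue A)
  set N := LinearMap.range (Matrix.mulVecLin (E.map π))
  obtain ⟨r, b⟩ := Submodule.basisOfPid (Pi.basisFun (ResidueField A)[X] (Fin n)) N
  have hπ : Function.Surjective π := Polynomial.map_surjective _ residue_surjective
  choose l hl using hπ
  set G₀ : Matrix (Fin n) (Fin r) A[X] := Matrix.of fun a i => l ((b i : Fin n → _) a)
  set U : Matrix (Fin r) (Fin n) A[X] := Matrix.of fun i j =>
    l (b.repr ⟨E.map π *ᵥ Pi.single j 1, LinearMap.mem_range.mpr ⟨Pi.single j 1, rfl⟩⟩ i)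
  have hG₀ : (E * G₀).map π = Matrix.of fun a i => (b i : Fin n → _) a := by
    rw [Matrix.map_mul]
    ext1 a i
    obtain ⟨v, hv⟩ := (b i).2
    have e : G₀.map π = Matrix.of fun a i => (b i : Fin n → _) a := Matrix.ext fun a i => hl _
    have hid : E.map π * E.map π = E.map π := by rw [← Matrix.map_mul, hE]
    rw [e]
    show (E.map π *ᵥ (b i : Fin n → _)) a = (b i : Fin n → _) a
    rw [← hv, Matrix.mulVecLin_apply, Matrix.mulVec_mulVec, hid]
  refine ⟨r, E * G₀, U, by rw [← Matrix.mul_assoc, hE], ?_, fun μ Z hZ => ?_⟩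
  · rw [entriesIn_iff_map_residue, Matrix.map_sub _ (map_sub π), sub_eq_zero, Matrix.map_mul, hG₀]
    ext1 a j
    have h := congrArg (fun x : ↥N => (x : Fin n → Polynomial (ResidueField A)) a)
      (b.sum_repr ⟨E.map π *ᵥ Pi.single j 1, LinearMap.mem_range.mpr ⟨Pi.single j 1, rfl⟩⟩)
    simp only [Submodule.coe_sum, Submodule.coe_smul, Finset.sum_apply, Pi.smul_apply, smul_eq_mul] at h
    refine (h.trans (congrFun (Matrix.mulVec_single_one (E.map π) j) a)).symm.trans ?_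
    rw [Matrix.mul_apply]
    exact Finset.sum_congr rfl fun i _ => by simp [U, hl, mul_comm]
  · rw [entriesIn_iff_map_residue] at hZ ⊢
    rw [Matrix.map_mul, hG₀] at hZ
    ext1 i c
    have h : ∑ i, π (Z i c) • b i = 0 := Subtype.ext (funext fun a => by
      have := Matrix.ext_iff.mpr hZ a c
      simp only [Matrix.mul_apply, Matrix.of_apply, Matrix.map_apply, Matrix.zero_apply] at this
      simp only [Submodule.coe_sum, Submodule.coe_smul, Finset.sum_apply, Pi.smul_apply, smul_eq_mul,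
        ZeroMemClass.coe_zero, Pi.zero_apply]
      rw [← this]
      exact Finset.sum_congr rfl fun i _ => mul_comm _ _)
    exact Fintype.linearIndependent_iff.mp b.linearIndependent _ h i

/-- Normalise the lattice: lifts of a basis of the fibre become reachable. -/
theorem exists_adapted_lattice {n m r : ℕ} (E : Matrix (Fin n) (Fin n) A[X])
    (F : Matrix (Fin m) (Fin m) A[X]) (G : Matrix (Fin m) (Fin n) A[T;T⁻¹])
    (H : Matrix (Fin n) (Fin m) A[T;T⁻¹]) (Gp : Matrix (Fin n) (Fin r) A[X])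
    (U : Matrix (Fin r) (Fin n) A[X]) (hE : E * E = E) (hF : F * F = F)
    (hGH : G * H = F.map toS) (hHG : H * G = E.map toT) (hEG : E * Gp = Gp)
    (hEU : EntriesIn (mP A) (E - Gp * U)) :
    ∃ (q : Type) (_ : Fintype q) (H' : Matrix (Fin n) q A[T;T⁻¹]), IsLattice (E.map toT) H' ∧
      (∃ W : Matrix q (Fin r) A[X], EntriesIn (mB A) (Gp.map toT - H' * W.map toS)) ∧
      ∃ P : Matrix (Fin r) q A[X], EntriesIn (mB A) (H' - Gp.map toT * P.map toS) := by
  set Et := E.map toT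
  set Fs := F.map toS
  have hEt : Et * Et = Et := by rw [← Matrix.map_mul, hE]
  have hFs : Fs * Fs = Fs := by rw [← Matrix.map_mul, hF]
  set G₁ := Fs * G * Et
  set H₁ := Et * H * Fs
  have h1 : G₁ * H₁ = Fs := by
    calc G₁ * H₁ = Fs * G * (Et * Et) * H * Fs := by simp only [G₁, H₁, Matrix.mul_assoc]
      _ = Fs * G * (H * G) * H * Fs := by rw [hEt, hHG]
      _ = Fs * (G * H) * (G * H) * Fs := by simp only [Matrix.mul_assoc]
      _ = Fs := by rw [hGH, hFs, hFs, hFs]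
  have h2 : H₁ * G₁ = Et := by
    calc H₁ * G₁ = Et * H * (Fs * Fs) * G * Et := by simp only [G₁, H₁, Matrix.mul_assoc]
      _ = Et * H * (G * H) * G * Et := by rw [hFs, hGH]
      _ = Et * (H * G) * (H * G) * Et := by simp only [Matrix.mul_assoc]
      _ = Et := by rw [hHG, hEt, hEt, hEt]
  have h3 : Et * H₁ = H₁ := by rw [← Matrix.mul_assoc, ← Matrix.mul_assoc, hEt]
  have h4 : H₁ * Fs = H₁ := by rw [Matrix.mul_assoc, hFs]
  have hlat : IsLattice Et H₁ := ⟨h3, ⟨G₁, h2⟩, fun w hw => by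
    have hmap : toS ∘ (F *ᵥ w) = Fs *ᵥ (toS ∘ w) :=
      funext fun i => RingHom.map_mulVec (toS : A[X] →ₐ[A] _).toRingHom F w i
    refine ⟨F *ᵥ w, fun j => mem_mP_of_toS ?_, by rw [hmap, Matrix.mulVec_mulVec, h4]⟩
    show (toS ∘ (F *ᵥ w)) j ∈ mB A
    rw [hmap, ← h1, ← Matrix.mulVec_mulVec]
    exact mulVec_mem' G₁ hw j⟩
  set g := Gp.map toT
  have hEg : Et * g = g := by rw [← Matrix.map_mul, hEG]
  obtain ⟨c, hc⟩ := exists_toS_eq_matrix (G₁ * g)
  obtain ⟨W, hW⟩ := hc c le_rfl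
  set β := (T (-(c : ℤ)) : A[T;T⁻¹]) • g
  obtain ⟨e, he⟩ := exists_toS_eq_matrix ((T (c : ℤ) : A[T;T⁻¹]) • (U.map toT * H₁))
  obtain ⟨P, hP⟩ := he e le_rfl
  obtain ⟨q, _, H', hH', ⟨W', hW'⟩, P', hP'⟩ := exists_modification Et β e (Fin m) H₁ hlat
    ⟨W, by
      rw [hW, Matrix.mul_smul, ← Matrix.mul_assoc, h2, hEg, sub_self]
      exact fun i j => zero_mem _⟩
    ⟨P, by
      have e1 : ∀ M : Matrix (Fin r) (Fin m) A[T;T⁻¹],
          β * ((T (-(e : ℤ)) : A[T;T⁻¹]) • (T (c : ℤ) : A[T;T⁻¹]) • M) = (T (-(e : ℤ)) : A[T;T⁻¹]) • (g * M) := by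
        intro M
        rw [Matrix.smul_mul, Matrix.mul_smul, Matrix.mul_smul, smul_smul, smul_smul, mul_comm (T (-(c : ℤ))),
          mul_assoc, ← T_add, ← T_add]
        congr 2
        omega
      rw [hP, e1, ← smul_sub]
      rw [show H₁ - g * (U.map toT * H₁) = Et * H₁ - g * U.map toT * H₁ by rw [h3, Matrix.mul_assoc],
        ← Matrix.sub_mul, ← Matrix.map_mul, ← Matrix.map_sub _ (map_sub toT)]
      exact ((hEU.map toT).mul_right _).smul _⟩
  refine ⟨q, inferInstance, (T (c : ℤ) : A[T;T⁻¹]) • H', hH'.smul _, ⟨W', ?_⟩, P', ?_⟩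
  · have : g - (T (c : ℤ) : A[T;T⁻¹]) • H' * W'.map toS = (T (c : ℤ) : A[T;T⁻¹]) • (β - H' * W'.map toS) := by
      rw [smul_sub, smul_smul, ← T_add, add_neg_cancel, T_zero, one_smul, Matrix.smul_mul]
    rw [this]
    exact hW'.smul _
  · have : (T (c : ℤ) : A[T;T⁻¹]) • H' - g * P'.map toS = (T (c : ℤ) : A[T;T⁻¹]) • (H' - β * P'.map toS) := by
      rw [smul_sub, Matrix.smul_mul, smul_smul, ← T_add, add_neg_cancel, T_zero, one_smul]
    rw [this]
    exact hP'.smul _

/-- Lift the basis of the fibre to global sections. -/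
theorem exists_global_sections {n r : ℕ} {q : Type} [Fintype q] (E : Matrix (Fin n) (Fin n) A[X])
    (H : Matrix (Fin n) q A[T;T⁻¹]) (Gp : Matrix (Fin n) (Fin r) A[X])
    (U : Matrix (Fin r) (Fin n) A[X]) (W : Matrix q (Fin r) A[X]) (hE : E * E = E)
    (hH : IsLattice (E.map toT) H) (hEG : E * Gp = Gp) (hEU : EntriesIn (mP A) (E - Gp * U))
    (hW : EntriesIn (mB A) (Gp.map toT - H * W.map toS)) :
    ∃ (V : Matrix (Fin n) (Fin r) A[X]) (W₁ : Matrix q (Fin r) A[X]), EntriesIn (mP A) V ∧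
      (Gp - E * V).map toT = H * W₁.map toS := by
  classical
  set Et := E.map toT
  have hEt : Et * Et = Et := by rw [← Matrix.map_mul, hE]
  set g := Gp.map toT
  have hEg : Et * g = g := by rw [← Matrix.map_mul, hEG]
  set s : A[T;T⁻¹] := T (-1)
  let Lmap : (Fin n → A[T;T⁻¹]) →ₗ[A] (Fin n → A[T;T⁻¹]) := (Matrix.mulVecLin Et).restrictScalars A
  let ΦT : (Fin n → A[X]) →ₗ[A] (Fin n → A[T;T⁻¹]) := Lmap ∘ₗ (toT.toLinearMap.compLeft (Fin n))
  let ΦS : (q → A[X]) →ₗ[A] (Fin n → A[T;T⁻¹]) :=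
    ((s • Matrix.mulVecLin H).restrictScalars A) ∘ₗ (toS.toLinearMap.compLeft q)
  let Φ := ΦT.coprod ΦS
  set L := LinearMap.range Lmap
  set Y := LinearMap.range Φ
  have hS : ∀ w, ΦS w = s • (H *ᵥ (toS ∘ w)) := fun _ => rfl
  have hT : ∀ v, ΦT v = Et *ᵥ (toT ∘ v) := fun _ => rfl
  have hYT : ∀ v, ΦT v ∈ Y := fun v => ⟨(v, 0), by simp [Φ]⟩
  have hYS : ∀ w, ΦS w ∈ Y := fun w => ⟨(0, w), by simp [Φ]⟩
  have hfix : ∀ y ∈ Y, Et *ᵥ y = y := by
    rintro _ ⟨⟨v, w⟩, rfl⟩
    rw [show Φ (v, w) = ΦT v + ΦS w from rfl, hS, hT, Matrix.mulVec_add, Matrix.mulVec_mulVec, hEt,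
      Matrix.mulVec_smul, Matrix.mulVec_mulVec, hH.mul_eq]
  have hfixL : ∀ y ∈ L, Et *ᵥ y = y := by
    rintro _ ⟨v, rfl⟩
    show Et *ᵥ (Et *ᵥ v) = Et *ᵥ v
    rw [Matrix.mulVec_mulVec, hEt]
  have hsmallL : ∀ d : Fin n → A[T;T⁻¹], Et *ᵥ d = d → (∀ i, d i ∈ mB A) → d ∈ maximalIdeal A • L := by
    intro d hd h
    have h1 := Submodule.mem_map_of_mem (f := Lmap) (mem_smul_top_of_entries h)
    rw [Submodule.map_smul'', Submodule.map_top] at h1
    rwa [show Lmap d = d from hd] at h1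
  have hYL : Y ≤ L := fun y hy => ⟨y, hfix y hy⟩
  -- `L` is `Y` modulo `𝔪`
  have hmod : L ≤ Y ⊔ maximalIdeal A • L := by
    rintro x ⟨v, rfl⟩
    show Et *ᵥ v ∈ _
    choose p p' hp using fun i : Fin r => exists_split ((U.map toT *ᵥ v) i)
    have hb : U.map toT *ᵥ v = toT ∘ p + s • (toS ∘ p') := funext fun i => hp i
    let y := ΦT (Gp *ᵥ p) + ΦS (W *ᵥ p')
    have hy : y ∈ Y := add_mem (hYT _) (hYS _)
    have hcT : toT ∘ (Gp *ᵥ p) = g *ᵥ (toT ∘ p) :=
      funext fun i => RingHom.map_mulVec (toT : A[X] →ₐ[A] _).toRingHom Gp p i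
    have hcS : toS ∘ (W *ᵥ p') = W.map toS *ᵥ (toS ∘ p') :=
      funext fun i => RingHom.map_mulVec (toS : A[X] →ₐ[A] _).toRingHom W p' i
    have hd : Et *ᵥ v - y = (Et - g * U.map toT) *ᵥ v + s • ((g - H * W.map toS) *ᵥ (toS ∘ p')) := by
      simp only [y, hS, hT, hcT, hcS, Matrix.mulVec_mulVec, hEg, Matrix.sub_mulVec, smul_sub]
      rw [← Matrix.mulVec_mulVec (M := g), hb, Matrix.mulVec_add, Matrix.mulVec_smul]
      abel
    rw [← add_sub_cancel y (Et *ᵥ v)]
    refine Submodule.add_mem_sup hy (hsmallL _ ?_ fun i => ?_)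
    · rw [Matrix.mulVec_sub, Matrix.mulVec_mulVec, hEt, hfix y hy]
    · rw [hd, Pi.add_apply, Pi.smul_apply, smul_eq_mul, ← Matrix.map_mul, ← Matrix.map_sub _ (map_sub toT)]
      exact add_mem (mulVec_mem (hEU.map toT) v i) (Ideal.mul_mem_left _ _ (mulVec_mem hW _ i))
  -- finitely many generators modulo `Y`
  obtain ⟨K, hK⟩ := hH.sat
  obtain ⟨D, hD⟩ := exists_toS_eq_matrix K
  let gen : Fin n × ↥(Finset.Ico (-(D : ℤ)) 0) → (Fin n → A[T;T⁻¹]) :=
    fun x => Et *ᵥ Pi.single x.1 (T x.2.1)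
  set N' := Submodule.span A (Set.range gen)
  have hN'L : N' ≤ L := Submodule.span_le.mpr (by rintro _ ⟨x, rfl⟩; exact ⟨_, rfl⟩)
  have hgenL : L ≤ Y ⊔ N' := by
    rintro x ⟨v, rfl⟩
    show Et *ᵥ v ∈ _
    rw [← Finset.univ_sum_single v, Matrix.mulVec_sum]
    refine sum_mem fun j _ => ?_
    induction v j using LaurentPolynomial.induction_on' with
    | add a b ha hb => rw [Pi.single_add, Matrix.mulVec_add]; exact add_mem ha hb
    | C_mul_T k a =>
      rw [show LaurentPolynomial.C a * T k = a • (T k : A[T;T⁻¹]) from (LaurentPolynomial.smul_eq_C_mul a _).symm,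
        Pi.single_smul, Matrix.mulVec_smul]
      refine Submodule.smul_mem _ a ?_
      rcases le_or_gt 0 k with hk | hk
      · refine Submodule.mem_sup_left ?_
        convert hYT (Pi.single j (Polynomial.X ^ k.toNat)) using 1
        rw [hT]
        congr 1
        ext1 i
        rcases eq_or_ne i j with rfl | hij
        · simp [toT_X_pow, hk]
        · simp [hij]
      rcases le_or_gt (-(D : ℤ)) k with hk' | hk'
      · exact Submodule.mem_sup_right
          (Submodule.subset_span ⟨(j, ⟨k, Finset.mem_Ico.mpr ⟨hk', hk⟩⟩), rfl⟩)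
      · refine Submodule.mem_sup_left ?_
        obtain ⟨P, hP⟩ := hD (-k - 1).toNat (by omega)
        convert hYS (fun i => P i j) using 1
        rw [hS, show (toS ∘ fun i => P i j) = (T (-((-k - 1).toNat : ℤ)) : A[T;T⁻¹]) • (fun i => K i j) from
          funext fun i => Matrix.ext_iff.mpr hP i j, Matrix.mulVec_smul, smul_smul]
        ext1 a
        rw [Pi.smul_apply, smul_eq_mul,
          show (H *ᵥ fun i => K i j) a = Et a j from Matrix.ext_iff.mpr hK a j,
          Matrix.mulVec_single, Pi.smul_apply, Matrix.col_apply, op_smul_eq_mul, mul_comm]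
        congr 1
        rw [← T_add, Int.toNat_of_nonneg (by omega)]
        congr 1
        omega
  have hN'Y : N' ≤ Y := by
    refine Submodule.le_of_le_smul_of_le_jacobson_bot (Submodule.fg_span (Set.finite_range gen))
      (maximalIdeal_le_jacobson ⊥) (hN'L.trans (hmod.trans (sup_le le_sup_left ?_)))
    refine (Submodule.smul_mono le_rfl hgenL).trans ?_
    rw [Submodule.smul_sup]
    exact sup_le_sup_right Submodule.smul_le_right _
  have hLY : L ≤ Y := hgenL.trans (sup_le le_rfl hN'Y)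
  have hsol : ∀ i, ∃ (v : Fin n → A[X]) (w : q → A[X]), (∀ j, v j ∈ mP A) ∧
      Et *ᵥ (toT ∘ v) + s • (H *ᵥ (toS ∘ w)) = fun a => (g - H * W.map toS) a i := by
    intro i
    have h := Submodule.smul_mono le_rfl hLY (hsmallL _ (funext fun a => by
      show (Et * (g - H * W.map toS)) a i = _
      rw [Matrix.mul_sub, hEg, ← Matrix.mul_assoc, hH.mul_eq]) fun a => hW a i)
    rw [show Y = Submodule.map Φ ⊤ from (Submodule.map_top Φ).symm, ← Submodule.map_smul''] at h
    obtain ⟨⟨v, w⟩, hvw, e⟩ := h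
    refine ⟨v, w, ?_, e⟩
    refine Submodule.smul_induction_on hvw (p := fun x => ∀ j, x.1 j ∈ mP A) ?_ ?_
    · intro a ha x _ j
      rw [Prod.smul_fst, Pi.smul_apply, Algebra.smul_def]
      exact Ideal.mul_mem_right _ _ (Ideal.mem_map_of_mem _ ha)
    · intro x y hx hy j
      exact add_mem (hx j) (hy j)
  choose v w hv hvw using hsol
  refine ⟨Matrix.of fun a i => v i a, W + (Polynomial.X : A[X]) • Matrix.of fun k i => w i k,
    fun a i => hv i a, ?_⟩
  rw [Matrix.map_sub _ (map_sub toT), Matrix.map_mul, Matrix.map_add _ (map_add toS), map_toS_smul,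
    toS_X, Matrix.mul_add, Matrix.mul_smul, ← sub_eq_zero]
  ext1 a i
  have := congrFun (hvw i) a
  simp only [Pi.add_apply, Pi.smul_apply, smul_eq_mul, Matrix.sub_apply] at this
  simp only [Matrix.sub_apply, Matrix.add_apply, Matrix.smul_apply, smul_eq_mul, Matrix.zero_apply]
  have e1 : (Et * (Matrix.of fun a i => v i a).map toT) a i = (Et *ᵥ (toT ∘ v i)) a := rfl
  have e2 : (H * (Matrix.of fun k i => w i k).map toS) a i = (H *ᵥ (toS ∘ w i)) a := rfl
  rw [e1, e2]
  linear_combination -this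

/-- Horrocks' theorem over a local ring, for idempotent matrices. -/
theorem local_trivial {n m : ℕ} (E : Matrix (Fin n) (Fin n) A[X])
    (F : Matrix (Fin m) (Fin m) A[X]) (G : Matrix (Fin m) (Fin n) A[T;T⁻¹])
    (H : Matrix (Fin n) (Fin m) A[T;T⁻¹]) (hE : E * E = E) (hF : F * F = F)
    (hGH : G * H = F.map toS) (hHG : H * G = E.map toT) :
    ∃ r, Eqv E (1 : Matrix (Fin r) (Fin r) A[X]) := by
  classical
  obtain ⟨r, Gp, U, hEGp, hEU, hind⟩ := exists_residue_basis E hE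
  obtain ⟨q, _, H, hH, ⟨W, hW⟩, P, hP⟩ := exists_adapted_lattice E F G H Gp U hE hF hGH hHG hEGp hEU
  obtain ⟨V, W₁, hV, hG₁⟩ := exists_global_sections E H Gp U W hE hH hEGp hEU hW
  set G₁ := Gp - E * V
  have hEV : EntriesIn (mP A) (E * V) := hV.mul_left E
  have hEG₁ : E * G₁ = G₁ := by rw [Matrix.mul_sub, hEGp, ← Matrix.mul_assoc, hE]
  have hind₁ : ∀ Z : Matrix (Fin r) (Fin r) A[X], EntriesIn (mP A) (G₁ * Z) → EntriesIn (mP A) Z := by
    intro Z hZ
    refine hind _ Z ?_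
    rw [show Gp * Z = G₁ * Z + E * V * Z by rw [← Matrix.add_mul, sub_add_cancel]]
    exact hZ.add (hEV.mul_right Z)
  have hEU₁ : EntriesIn (mP A) (E - G₁ * U) := by
    rw [show E - G₁ * U = (E - Gp * U) + E * V * U by rw [Matrix.sub_mul]; abel]
    exact hEU.add (hEV.mul_right U)
  -- `h E ∈ span G₁`
  set R := E - G₁ * U
  have hER : E * (1 - R) = G₁ * U := by
    rw [Matrix.mul_sub, Matrix.mul_one, Matrix.mul_sub, hE, ← Matrix.mul_assoc, hEG₁]
    abel
  set h := (1 - R).det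
  have hh : h • E = G₁ * (U * (1 - R).adjugate) := by
    rw [← Matrix.mul_assoc, ← hER, Matrix.mul_assoc, Matrix.mul_adjugate, Matrix.mul_smul, Matrix.mul_one]
  have hh1 : h - 1 ∈ mP A := det_one_sub_sub_one_mem hEU₁
  set g₁ := G₁.map toT
  -- `h' H ∈ span g₁`
  obtain ⟨Z, hZ, hHZ⟩ := hH.cap_matrix (1 - W₁ * P) (by
    rw [Matrix.map_sub _ (map_sub toS), Matrix.map_one _ (map_zero toS) (map_one toS), Matrix.map_mul,
      Matrix.mul_sub, Matrix.mul_one, ← Matrix.mul_assoc, ← hG₁, show g₁ = Gp.map toT - (E * V).map toT from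
        Matrix.map_sub _ (map_sub toT) _ _, Matrix.sub_mul, sub_sub_eq_add_sub, add_sub_right_comm]
    exact hP.add ((hEV.map toT).mul_right _))
  have hHZ' : H * (1 - Z).map toS = g₁ * P.map toS := by
    rw [Matrix.map_sub _ (map_sub toS), Matrix.map_one _ (map_zero toS) (map_one toS), Matrix.mul_sub,
      hHZ, Matrix.map_sub _ (map_sub toS), Matrix.map_one _ (map_zero toS) (map_one toS), Matrix.map_mul,
      Matrix.mul_sub, Matrix.mul_one, sub_sub_cancel, ← Matrix.mul_assoc, ← hG₁]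
  set h' := (1 - Z).det
  have hh' : toS h' • H = g₁ * (P * (1 - Z).adjugate).map toS := by
    rw [Matrix.map_mul, ← Matrix.mul_assoc, ← hHZ', Matrix.mul_assoc, ← Matrix.map_mul, Matrix.mul_adjugate,
      map_toS_smul, Matrix.map_one _ (map_zero toS) (map_one toS), Matrix.mul_smul, Matrix.mul_one]
  let J' : Ideal A[X] :=
    { carrier := {p | ∃ P' : Matrix (Fin r) q A[X], toS p • H = g₁ * P'.map toS}
      zero_mem' := ⟨0, by simp⟩
      add_mem' := by
        rintro a b ⟨Pa, ha⟩ ⟨Pb, hb⟩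
        exact ⟨Pa + Pb, by rw [map_add, add_smul, ha, hb, Matrix.map_add _ (map_add toS), Matrix.mul_add]⟩
      smul_mem' := by
        rintro c a ⟨Pa, ha⟩
        exact ⟨c • Pa, by rw [smul_eq_mul, map_mul, mul_smul, ha, map_toS_smul, Matrix.mul_smul]⟩ }
  obtain ⟨D, hD⟩ := exists_toS_eq_matrix ((U * (1 - R).adjugate).map toT * H)
  set d := max D h.natDegree
  obtain ⟨P4, hP4⟩ := hD d (le_max_left _ _)
  set qp := Polynomial.X ^ (d - h.natDegree) * h.reverse
  have hq : toS qp = T (-(d : ℤ)) * toT h := by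
    have e : toS h.reverse = toT h * T (-(h.natDegree : ℤ)) := by
      show LaurentPolynomial.invert (Polynomial.toLaurent h.reverse) = _
      rw [toLaurent_reverse, map_mul, invert_T, involutive_invert]
      rfl
    rw [map_mul, toS_X_pow, e, mul_left_comm, ← T_add, mul_comm]
    congr 2
    have : h.natDegree ≤ d := le_max_right _ _
    omega
  have hqJ : qp ∈ J' := ⟨P4, by
    rw [hq, mul_smul, hP4, Matrix.mul_smul, ← Matrix.mul_assoc, ← Matrix.map_mul, ← hh, map_toT_smul,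
      Matrix.smul_mul, hH.mul_eq]⟩
  obtain ⟨u, hu⟩ := isUnit_coeff_zero_of_sub_one_mem hh1
  have hmon : (Polynomial.C ((u⁻¹ : Aˣ) : A) * qp).Monic := by
    have hd : h.natDegree ≤ d := le_max_right _ _
    refine Polynomial.monic_of_natDegree_le_of_coeff_eq_one d ?_ ?_
    · refine (Polynomial.natDegree_C_mul_le _ _).trans (Polynomial.natDegree_mul_le.trans ?_)
      refine (add_le_add (Polynomial.natDegree_X_pow_le _) (Polynomial.reverse_natDegree_le h)).trans ?_
      omega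
    · rw [Polynomial.coeff_C_mul, Polynomial.coeff_X_pow_mul', if_pos (Nat.sub_le _ _),
        Nat.sub_sub_self hd, Polynomial.coeff_reverse, Polynomial.revAt_le le_rfl, Nat.sub_self, ← hu]
      exact Units.inv_mul u
  have hJ' : J' = ⊤ := eq_top_of_monic hmon (J'.mul_mem_left _ hqJ) ⟨_, hh'⟩ (det_one_sub_sub_one_mem hZ)
  obtain ⟨P5, hP5⟩ : (1 : A[X]) ∈ J' := hJ' ▸ Submodule.mem_top
  rw [map_one, one_smul] at hP5
  -- `E ∈ span G₁`
  let J : Ideal A[X] :=
    { carrier := {p | ∃ U' : Matrix (Fin r) (Fin n) A[X], p • E = G₁ * U'}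
      zero_mem' := ⟨0, by simp⟩
      add_mem' := by
        rintro a b ⟨Ua, ha⟩ ⟨Ub, hb⟩
        exact ⟨Ua + Ub, by rw [add_smul, ha, hb, Matrix.mul_add]⟩
      smul_mem' := by
        rintro c a ⟨Ua, ha⟩
        exact ⟨c • Ua, by rw [smul_eq_mul, mul_smul, ha, Matrix.mul_smul]⟩ }
  obtain ⟨K, hK⟩ := hH.sat
  obtain ⟨D5, hD5⟩ := exists_toT_eq_matrix (P5.map toS * K)
  obtain ⟨U5, hU5⟩ := hD5 D5 le_rfl
  have hXJ : (Polynomial.X ^ D5 : A[X]) ∈ J := ⟨U5, Matrix.map_injective toT_injective (by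
    show (((Polynomial.X : A[X]) ^ D5) • E).map toT = (G₁ * U5).map toT
    rw [map_toT_smul, Matrix.map_mul, hU5, Matrix.mul_smul, ← Matrix.mul_assoc, ← hP5, hK, toT_X_pow])⟩
  have hJ : J = ⊤ := eq_top_of_monic (Polynomial.monic_X_pow _) hXJ ⟨_, hh⟩ hh1
  obtain ⟨U6, hU6⟩ : (1 : A[X]) ∈ J := hJ ▸ Submodule.mem_top
  rw [one_smul] at hU6
  set Ψ := U6 * E * G₁
  have hGΨ : G₁ * Ψ = G₁ := by
    rw [← Matrix.mul_assoc, ← Matrix.mul_assoc, ← hU6, hE, hEG₁]
  have hΨ2 : Ψ * Ψ = Ψ := by rw [Matrix.mul_assoc (U6 * E), hGΨ]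
  have hΨ1 : EntriesIn (mP A) (1 - Ψ) := by
    refine hind₁ _ ?_
    rw [Matrix.mul_sub, Matrix.mul_one, hGΨ, sub_self]
    exact fun _ _ => zero_mem _
  have hdet := det_one_sub_sub_one_mem hΨ1
  rw [sub_sub_cancel] at hdet
  have hΨ : Ψ = 1 := by
    have h0 : Ψ.det • (Ψ - 1) = 0 := by
      calc Ψ.det • (Ψ - 1) = Ψ.adjugate * Ψ * (Ψ - 1) := by
            rw [Matrix.adjugate_mul, Matrix.smul_mul, Matrix.one_mul]
        _ = 0 := by rw [Matrix.mul_assoc, Matrix.mul_sub, Matrix.mul_one, hΨ2, sub_self, Matrix.mul_zero]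
    refine sub_eq_zero.mp (Matrix.ext fun i j => ?_)
    exact eq_zero_of_mul_eq_zero_of_isUnit_coeff_zero (isUnit_coeff_zero_of_sub_one_mem hdet)
      (Matrix.ext_iff.mpr h0 i j)
  exact ⟨r, U6 * E, G₁, hΨ, by rw [← Matrix.mul_assoc, ← hU6, hE]⟩

end L02.CAlg.Horrocks
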