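import Mathlib.RingTheory.Finiteness.Projective
import Mathlib.LinearAlgebra.TensorProduct.Pi
import Mathlib.LinearAlgebra.TensorProduct.Tower
import Mathlib.LinearAlgebra.Matrix.ToLin
import Groth.Agent.L02.CAlg.Horrocks.LocalTrivial

/-!
Horrocks' theorem over an arbitrary ring, for matrices and for modules.
-/

set_option autoImplicit false

universe u

open Polynomial Matrix LaurentPolynomial TensorProduct

namespace L02.CAlg.Horrocks

section
variable {A B : Type*} [CommRing A] [CommRing B]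

/-- Change of coefficients of Laurent polynomials. -/
noncomputable def laurentMap (f : A →+* B) : A[T;T⁻¹] →+* B[T;T⁻¹] :=
  LaurentPolynomial.eval₂ ((LaurentPolynomial.C).comp f) (LaurentPolynomial.isUnit_T 1).unit

theorem laurentMap_toT (f : A →+* B) :
    (laurentMap f).comp (toT : A[X] →ₐ[A] A[T;T⁻¹]).toRingHom =
      (toT : B[X] →ₐ[B] B[T;T⁻¹]).toRingHom.comp (Polynomial.mapRingHom f) := by
  refine Polynomial.ringHom_ext (fun a => ?_) ?_ <;>
    simp [laurentMap, toT, LaurentPolynomial.eval₂_toLaurent]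

theorem laurentMap_T (f : A →+* B) (k : ℤ) : laurentMap f (T k) = T k := by
  rw [laurentMap, LaurentPolynomial.eval₂_T]
  have : ∀ j : ℤ, (((LaurentPolynomial.isUnit_T (R := B) 1).unit ^ j : (B[T;T⁻¹])ˣ) : B[T;T⁻¹]) = T j := by
    intro j
    induction j using Int.induction_on with
    | zero => simp
    | succ i hi => rw [zpow_add_one, Units.val_mul, hi, IsUnit.unit_spec, ← T_add]
    | pred i hi =>
      refine (LaurentPolynomial.isUnit_T (R := B) 1).mul_right_cancel ?_
      rw [← T_add]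
      nth_rewrite 2 [← (LaurentPolynomial.isUnit_T (R := B) 1).unit_spec]
      rw [← Units.val_mul, ← zpow_add_one, sub_add_cancel, hi]
  exact this k

theorem laurentMap_toS (f : A →+* B) :
    (laurentMap f).comp (toS : A[X] →ₐ[A] A[T;T⁻¹]).toRingHom =
      (toS : B[X] →ₐ[B] B[T;T⁻¹]).toRingHom.comp (Polynomial.mapRingHom f) := by
  refine Polynomial.ringHom_ext (fun a => ?_) ?_
  · show laurentMap f (toS (Polynomial.C a)) = toS (Polynomial.map f (Polynomial.C a))
    rw [Polynomial.map_C, show toS (Polynomial.C a) = LaurentPolynomial.C a from toS.commutes a,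
      show toS (Polynomial.C (f a)) = LaurentPolynomial.C (f a) from toS.commutes (f a),
      laurentMap, LaurentPolynomial.eval₂_C]
    rfl
  · simp [toS_X, laurentMap_T]

/-- Horrocks' theorem for idempotent matrices. -/
theorem horrocks_matrix {n m : ℕ} (E : Matrix (Fin n) (Fin n) A[X]) (F : Matrix (Fin m) (Fin m) A[X])
    (G : Matrix (Fin m) (Fin n) A[T;T⁻¹]) (H : Matrix (Fin n) (Fin m) A[T;T⁻¹]) (hE : E * E = E)
    (hF : F * F = F) (hGH : G * H = F.map toS) (hHG : H * G = E.map toT) :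
    Eqv E (E.map (Polynomial.C.comp (Polynomial.evalRingHom 0))) := by
  refine quillen E hE fun p _ => ?_
  set f := algebraMap A (Localization.AtPrime p)
  set π := Polynomial.mapRingHom f
  refine local_trivial (E.map π) (F.map π) (G.map (laurentMap f)) (H.map (laurentMap f))
    (by rw [← Matrix.map_mul, hE]) (by rw [← Matrix.map_mul, hF]) ?_ ?_
  · rw [← Matrix.map_mul, hGH]
    exact Matrix.ext fun i j => RingHom.congr_fun (laurentMap_toS f) (F i j)
  · rw [← Matrix.map_mul, hHG]
    exact Matrix.ext fun i j => RingHom.congr_fun (laurentMap_toT f) (E i j)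

end

section Retract
variable {R S : Type*} [CommRing R] [CommRing S] [Algebra R S] {M : Type*} [AddCommGroup M] [Module R M]
variable {n : ℕ} (i : M →ₗ[R] (Fin n → R)) (p : (Fin n → R) →ₗ[R] M)

variable (S) in
/-- The base changed inclusion. -/
noncomputable def inclS : S ⊗[R] M →ₗ[S] (Fin n → S) :=
  (TensorProduct.piScalarRight R S S (Fin n)).toLinearMap ∘ₗ i.baseChange S

variable (S) in
/-- The base changed projection. -/
noncomputable def projS : (Fin n → S) →ₗ[S] S ⊗[R] M :=
  p.baseChange S ∘ₗ (TensorProduct.piScalarRight R S S (Fin n)).symm.toLinearMap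

theorem projS_inclS (h : p ∘ₗ i = LinearMap.id) (x : S ⊗[R] M) : projS S p (inclS S i x) = x := by
  simp only [projS, inclS, LinearMap.comp_apply, LinearEquiv.coe_coe, LinearEquiv.symm_apply_apply]
  rw [← LinearMap.comp_apply, ← LinearMap.baseChange_comp, h, LinearMap.baseChange_id, LinearMap.id_apply]

theorem inclS_projS (v : Fin n → S) :
    inclS S i (projS S p v) = (LinearMap.toMatrix' (i ∘ₗ p)).map (algebraMap R S) *ᵥ v := by
  rw [← LinearMap.comp_apply, ← Matrix.mulVecLin_apply]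
  refine LinearMap.congr_fun ((Pi.basisFun S (Fin n)).ext fun j => ?_) v
  rw [Pi.basisFun_apply, Matrix.mulVecLin_apply, Matrix.mulVec_single_one, LinearMap.comp_apply]
  simp only [projS, inclS, LinearMap.comp_apply, LinearEquiv.coe_coe,
    TensorProduct.piScalarRight_symm_single, LinearMap.baseChange_tmul, TensorProduct.piScalarRight_apply,
    TensorProduct.piScalarRightHom_tmul]
  ext a
  simp [LinearMap.toMatrix'_apply, Algebra.smul_def, ← Pi.single_apply]

theorem toMatrix'_idem (h : p ∘ₗ i = LinearMap.id) :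
    LinearMap.toMatrix' (i ∘ₗ p) * LinearMap.toMatrix' (i ∘ₗ p) = LinearMap.toMatrix' (i ∘ₗ p) := by
  rw [← LinearMap.toMatrix'_comp, LinearMap.comp_assoc, ← LinearMap.comp_assoc _ i p, h, LinearMap.id_comp]

end Retract

theorem exists_retract (R M : Type*) [CommRing R] [AddCommGroup M] [Module R M] [Module.Finite R M]
    [Module.Projective R M] :
    ∃ (n : ℕ) (i : M →ₗ[R] (Fin n → R)) (p : (Fin n → R) →ₗ[R] M), p ∘ₗ i = LinearMap.id := by
  obtain ⟨n, f, g, -, -, h⟩ := Module.Finite.exists_comp_eq_id_of_projective R M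
  exact ⟨n, g, f, h⟩

/-- Modules cut out by equivalent idempotents are isomorphic. -/
theorem nonempty_linearEquiv_of_eqv {R M N : Type*} [CommRing R] [AddCommGroup M] [Module R M]
    [AddCommGroup N] [Module R N] {n m : ℕ} (iM : M →ₗ[R] (Fin n → R)) (pM : (Fin n → R) →ₗ[R] M)
    (iN : N →ₗ[R] (Fin m → R)) (pN : (Fin m → R) →ₗ[R] N) (hM : ∀ x, pM (iM x) = x)
    (hN : ∀ y, pN (iN y) = y) {E : Matrix (Fin n) (Fin n) R} {F : Matrix (Fin m) (Fin m) R}
    (hEM : ∀ v, iM (pM v) = E *ᵥ v) (hFN : ∀ v, iN (pN v) = F *ᵥ v) (h : Eqv E F) :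
    Nonempty (M ≃ₗ[R] N) := by
  obtain ⟨U, V, hUV, hVU⟩ := h
  have hfix : ∀ x, E *ᵥ iM x = iM x := fun x => by rw [← hEM, hM]
  have hfix' : ∀ y, F *ᵥ iN y = iN y := fun y => by rw [← hFN, hN]
  refine ⟨LinearEquiv.ofLinearMap (pN ∘ₗ U.mulVecLin ∘ₗ iM) (pM ∘ₗ V.mulVecLin ∘ₗ iN)
    (LinearMap.ext fun y => ?_) (LinearMap.ext fun x => ?_)⟩
  · simp only [LinearMap.comp_apply, Matrix.mulVecLin_apply, LinearMap.id_apply, hEM, Matrix.mulVec_mulVec]
    rw [← hVU, show U * (V * U * V) = (U * V) * (U * V) by simp only [Matrix.mul_assoc], hUV,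
      ← Matrix.mulVec_mulVec, hfix', hfix', hN]
  · simp only [LinearMap.comp_apply, Matrix.mulVecLin_apply, LinearMap.id_apply, hFN, Matrix.mulVec_mulVec]
    rw [← hUV, show V * (U * V * U) = (V * U) * (V * U) by simp only [Matrix.mul_assoc], hVU,
      ← Matrix.mulVec_mulVec, hfix, hfix, hM]

theorem semilinear_eq_mulVec {R : Type*} [CommRing R] {n m : ℕ} (σ : R →+* R)
    (ψ : (Fin n → R) →ₛₗ[σ] (Fin m → R)) (v : Fin n → R) :
    ψ v = (Matrix.of fun a j => ψ (Pi.single j 1) a) *ᵥ (σ ∘ v) := by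
  conv_lhs => rw [← Finset.univ_sum_single v]
  rw [map_sum]
  ext a
  simp only [Matrix.mulVec, dotProduct, Matrix.of_apply, Finset.sum_apply, Function.comp_apply]
  refine Finset.sum_congr rfl fun j _ => ?_
  rw [show Pi.single j (v j) = v j • (Pi.single j 1 : Fin n → R) by rw [← Pi.single_smul, smul_eq_mul, mul_one],
    ψ.map_smulₛₗ, Pi.smul_apply, smul_eq_mul, mul_comm]

/-- Horrocks' theorem: a bundle on the projective line is extended on the affine line. -/
theorem exists_extended (A : Type u) [CommRing A] (M : Type u) [AddCommGroup M] [Module A[X] M]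
    [Module.Finite A[X] M] [Module.Projective A[X] M] (N : Type u) [AddCommGroup N] [Module A[X] N]
    [Module.Finite A[X] N] [Module.Projective A[X] N]
    (e : (A[T;T⁻¹] ⊗[A[X]] M) →ₛₗ[(LaurentPolynomial.invert (R := A)).toRingEquiv.toRingHom]
      (A[T;T⁻¹] ⊗[A[X]] N)) (he : Function.Bijective e) :
    ∃ (P : Type u) (_ : AddCommGroup P) (_ : Module A P), Nonempty (M ≃ₗ[A[X]] (A[X] ⊗[A] P)) := by
  classical
  let B := A[T;T⁻¹]
  let σ := (LaurentPolynomial.invert (R := A)).toRingEquiv.toRingHom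
  have hσσ : ∀ b, σ (σ b) = b := fun b => involutive_invert b
  obtain ⟨n, iM, pM, hM⟩ := exists_retract A[X] M
  obtain ⟨m, iN, pN, hN⟩ := exists_retract A[X] N
  set E := LinearMap.toMatrix' (iM ∘ₗ pM)
  set F := LinearMap.toMatrix' (iN ∘ₗ pN)
  let inv : B ⊗[A[X]] N → B ⊗[A[X]] M := Function.surjInv he.2
  have hei : ∀ y, e (inv y) = y := Function.surjInv_eq he.2
  have hie : ∀ x, inv (e x) = x := fun x => he.1 (hei _)
  let e' : (B ⊗[A[X]] N) →ₛₗ[σ] (B ⊗[A[X]] M) :=
    { toFun := inv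
      map_add' := fun x y => he.1 (by rw [map_add, hei, hei, hei])
      map_smul' := fun b y => he.1 (by
        rw [e.map_smulₛₗ, hei, hei]
        exact congrArg (· • y) (hσσ b).symm) }
  let ψ : (Fin n → B) →ₛₗ[σ] (Fin m → B) :=
    { toFun := fun v => inclS B iN (e (projS B pM v))
      map_add' := fun v w => by simp only [map_add]
      map_smul' := fun b v => by rw [map_smul, e.map_smulₛₗ, map_smul] }
  let φ : (Fin m → B) →ₛₗ[σ] (Fin n → B) :=
    { toFun := fun v => inclS B iM (e' (projS B pN v))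
      map_add' := fun v w => by simp only [map_add]
      map_smul' := fun b v => by rw [map_smul, e'.map_smulₛₗ, map_smul] }
  set G₀ : Matrix (Fin m) (Fin n) B := Matrix.of fun a j => ψ (Pi.single j 1) a
  set H₀ : Matrix (Fin n) (Fin m) B := Matrix.of fun a j => φ (Pi.single j 1) a
  have hσv : ∀ {k l : ℕ} (M : Matrix (Fin k) (Fin l) B) (v : Fin l → B),
      σ ∘ (M *ᵥ v) = M.map σ *ᵥ (σ ∘ v) := fun M v => funext fun a => RingHom.map_mulVec σ M v a
  have hψ : ∀ v, ψ v = G₀ *ᵥ (σ ∘ v) := semilinear_eq_mulVec σ ψ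
  have hφ : ∀ v, φ v = H₀ *ᵥ (σ ∘ v) := semilinear_eq_mulVec σ φ
  have hσv' : ∀ {k : ℕ} (v : Fin k → B), σ ∘ (σ ∘ v) = v := fun v => funext fun a => hσσ (v a)
  have hHG : H₀ * G₀.map σ = E.map (algebraMap A[X] B) := by
    refine Matrix.ext_of_mulVec_single fun j => ?_
    conv_lhs => rw [← hσv' (Pi.single j 1)]
    rw [← Matrix.mulVec_mulVec, ← hσv, ← hψ, ← hφ]
    show inclS B iM (inv (projS B pN (inclS B iN (e (projS B pM _))))) = _
    rw [projS_inclS iN pN hN, hie, inclS_projS]
  have hGH : G₀ * H₀.map σ = F.map (algebraMap A[X] B) := by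
    refine Matrix.ext_of_mulVec_single fun j => ?_
    conv_lhs => rw [← hσv' (Pi.single j 1)]
    rw [← Matrix.mulVec_mulVec, ← hσv, ← hφ, ← hψ]
    show inclS B iN (e (projS B pM (inclS B iM (inv (projS B pN _))))) = _
    rw [projS_inclS iM pM hM, hei, inclS_projS]
  have hGH' : G₀.map σ * H₀ = F.map toS := by
    have := congrArg (fun X : Matrix (Fin m) (Fin m) B => X.map σ) hGH
    simp only [Matrix.map_mul] at this
    rw [show (H₀.map σ).map σ = H₀ from Matrix.ext fun a b => hσσ _] at this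
    rw [this]
    exact Matrix.ext fun a b => rfl
  have hHG' : H₀ * G₀.map σ = E.map toT := hHG
  have hq := horrocks_matrix E F (G₀.map σ) H₀ (toMatrix'_idem iM pM hM) (toMatrix'_idem iN pN hN) hGH' hHG'
  set E₀ : Matrix (Fin n) (Fin n) A := E.map (Polynomial.evalRingHom 0)
  have hE₀ : E₀ * E₀ = E₀ := by rw [← Matrix.map_mul, toMatrix'_idem iM pM hM]
  let P := LinearMap.range E₀.mulVecLin
  let p₀ : (Fin n → A) →ₗ[A] P := E₀.mulVecLin.rangeRestrict
  have hp₀ : p₀ ∘ₗ P.subtype = LinearMap.id := by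
    refine LinearMap.ext fun x => Subtype.ext ?_
    obtain ⟨v, hv⟩ := x.2
    show E₀ *ᵥ (x : Fin n → A) = x
    rw [← hv, Matrix.mulVecLin_apply, Matrix.mulVec_mulVec, hE₀]
  refine ⟨P, inferInstance, inferInstance, nonempty_linearEquiv_of_eqv iM pM
    (inclS A[X] P.subtype) (projS A[X] p₀) (fun x => LinearMap.congr_fun hM x)
    (projS_inclS _ _ hp₀) (E := E) (F := E₀.map (algebraMap A A[X])) (fun v => ?_) (fun v => ?_) ?_⟩
  · rw [← LinearMap.comp_apply, ← Matrix.toLin'_apply, Matrix.toLin'_toMatrix']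
  · have e1 : P.subtype ∘ₗ p₀ = Matrix.toLin' E₀ :=
      LinearMap.ext fun w => (Matrix.toLin'_apply E₀ w).symm
    rw [inclS_projS, e1, LinearMap.toMatrix'_toLin']
  · exact hq

end L02.CAlg.Horrocks
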