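import Mathlib.Data.Matrix.ColumnRowPartitioned
import Groth.Agent.L02.CAlg.Horrocks.Global

/-!
Finite projective modules over `A` are determined by their base change to `A(t)`.
-/

set_option autoImplicit false

open Polynomial Matrix LaurentPolynomial TensorProduct

namespace L02.CAlg.Horrocks

theorem Eqv.symm {R ι κ : Type*} [CommRing R] [Fintype ι] [Fintype κ] {E : Matrix ι ι R}
    {F : Matrix κ κ R} (h : Eqv E F) : Eqv F E := by
  obtain ⟨U, V, a, b⟩ := h
  exact ⟨V, U, b, a⟩

theorem exists_lift_matrix {R S ι κ : Type*} [CommRing R] [CommRing S] [Algebra R S] (M : Submonoid R)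
    [IsLocalization M S] [Fintype ι] [Fintype κ] (G : Matrix ι κ S) :
    ∃ f ∈ M, ∃ a : Matrix ι κ R, a.map (algebraMap R S) = algebraMap R S f • G := by
  classical
  choose a s hs using fun x : ι × κ => IsLocalization.exists_mk'_eq M (G x.1 x.2)
  refine ⟨∏ x, (s x : R), prod_mem fun x _ => (s x).2,
    Matrix.of fun i j => (∏ y ∈ Finset.univ.erase (i, j), (s y : R)) * a (i, j), Matrix.ext fun i j => ?_⟩
  rw [Matrix.map_apply, Matrix.of_apply, Matrix.smul_apply, smul_eq_mul, map_mul,
    ← Finset.prod_erase_mul _ (fun x => (s x : R)) (Finset.mem_univ (i, j)), map_mul, mul_assoc]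
  congr 1
  rw [← hs (i, j), IsLocalization.mk'_spec']

theorem exists_kill_matrix {R S ι κ : Type*} [CommRing R] [CommRing S] [Algebra R S] (M : Submonoid R)
    [IsLocalization M S] [Fintype ι] [Fintype κ] {D D' : Matrix ι κ R}
    (h : D.map (algebraMap R S) = D'.map (algebraMap R S)) : ∃ g ∈ M, g • D = g • D' := by
  classical
  choose s hs using fun x : ι × κ =>
    (IsLocalization.eq_iff_exists M S).mp (Matrix.ext_iff.mpr h x.1 x.2)
  refine ⟨∏ x, (s x : R), prod_mem fun x _ => (s x).2, Matrix.ext fun i j => ?_⟩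
  rw [Matrix.smul_apply, Matrix.smul_apply, ← Finset.prod_erase_mul _ (fun x => (s x : R))
    (Finset.mem_univ (i, j)), smul_eq_mul, smul_eq_mul, mul_assoc, mul_assoc, hs (i, j)]

theorem toS_injective {A : Type*} [CommRing A] : Function.Injective (toS : A[X] → A[T;T⁻¹]) :=
  (LaurentPolynomial.invert (R := A)).injective.comp Polynomial.toLaurent_injective

theorem map_C_map_toT {A ι κ : Type*} [CommRing A] (M : Matrix ι κ A) :
    (M.map Polynomial.C).map toT = M.map (algebraMap A A[T;T⁻¹]) :=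
  Matrix.ext fun i j => toT.commutes (M i j)

theorem map_C_map_toS {A ι κ : Type*} [CommRing A] (M : Matrix ι κ A) :
    (M.map Polynomial.C).map toS = M.map (algebraMap A A[T;T⁻¹]) :=
  Matrix.ext fun i j => toS.commutes (M i j)

variable {A : Type*} [CommRing A] {n m : ℕ} (E : Matrix (Fin n) (Fin n) A) (E' : Matrix (Fin m) (Fin m) A)

/-- Equivalence over `A(t)` descends to `A`. -/
theorem eqv_of_monic (hE : E * E = E) (hE' : E' * E' = E') (f : A[X]) (hf : f.Monic)
    (a : Matrix (Fin m) (Fin n) A[X]) (b : Matrix (Fin n) (Fin m) A[X])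
    (ha : E'.map Polynomial.C * a = a) (ha' : a * E.map Polynomial.C = a)
    (hb : E.map Polynomial.C * b = b) (hb' : b * E'.map Polynomial.C = b)
    (hab : a * b = f • E'.map Polynomial.C) (hba : b * a = f • E.map Polynomial.C) : Eqv E E' := by
  classical
  set Ec := E.map (Polynomial.C : A →+* A[X])
  set Ec' := E'.map (Polynomial.C : A →+* A[X])
  -- reverse all the polynomials
  obtain ⟨D₁, hD₁⟩ := exists_toS_eq_matrix (a.map toT)
  obtain ⟨D₂, hD₂⟩ := exists_toS_eq_matrix (b.map toT)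
  set D := max (max D₁ D₂) (f.natDegree + 1)
  have hDd : f.natDegree + 1 ≤ D := le_max_right _ _
  obtain ⟨α, hα⟩ := hD₁ D ((le_max_left _ _).trans (le_max_left _ _))
  obtain ⟨β, hβ⟩ := hD₂ D ((le_max_right _ _).trans (le_max_left _ _))
  set j := 2 * D - f.natDegree
  set F := f.reverse
  have hjF : toS (Polynomial.X ^ j * F) = T (-(D : ℤ)) * T (-(D : ℤ)) * toT f := by
    have e : toS F = toT f * T (-(f.natDegree : ℤ)) := by
      show LaurentPolynomial.invert (Polynomial.toLaurent f.reverse) = _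
      rw [toLaurent_reverse, map_mul, invert_T, involutive_invert]
      rfl
    rw [map_mul, toS_X_pow, e, mul_left_comm, ← T_add, mul_comm, ← T_add]
    congr 2
    omega
  have hinj {ι κ : Type} {M N : Matrix ι κ A[X]} (h : M.map toS = N.map toS) : M = N :=
    Matrix.map_injective toS_injective h
  have hαl : Ec' * α = α := hinj (by
    rw [Matrix.map_mul, hα, map_C_map_toS, ← map_C_map_toT, Matrix.mul_smul, ← Matrix.map_mul, ha])
  have hαr : α * Ec = α := hinj (by
    rw [Matrix.map_mul, hα, map_C_map_toS, ← map_C_map_toT, Matrix.smul_mul, ← Matrix.map_mul, ha'])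
  have hβl : Ec * β = β := hinj (by
    rw [Matrix.map_mul, hβ, map_C_map_toS, ← map_C_map_toT, Matrix.mul_smul, ← Matrix.map_mul, hb])
  have hβr : β * Ec' = β := hinj (by
    rw [Matrix.map_mul, hβ, map_C_map_toS, ← map_C_map_toT, Matrix.smul_mul, ← Matrix.map_mul, hb'])
  have hαβ : α * β = (Polynomial.X ^ j * F) • Ec' := hinj (by
    rw [Matrix.map_mul, hα, hβ, Matrix.smul_mul, Matrix.mul_smul, ← Matrix.map_mul, hab, map_toS_smul,
      map_toT_smul, map_C_map_toS, map_C_map_toT, hjF, smul_smul, smul_smul, mul_assoc])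
  have hβα : β * α = (Polynomial.X ^ j * F) • Ec := hinj (by
    rw [Matrix.map_mul, hα, hβ, Matrix.smul_mul, Matrix.mul_smul, ← Matrix.map_mul, hba, map_toS_smul,
      map_toT_smul, map_C_map_toS, map_C_map_toT, hjF, smul_smul, smul_smul, mul_assoc])
  have hF0 : F.coeff 0 = 1 := by rw [Polynomial.coeff_zero_reverse, hf.leadingCoeff]
  obtain ⟨u, v, huv⟩ : IsCoprime (Polynomial.X ^ j) F := by
    refine IsCoprime.pow_left ⟨-F.divX, 1, ?_⟩
    have h := Polynomial.X_mul_divX_add F
    rw [hF0, map_one] at h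
    linear_combination -h
  -- the bundle near infinity, glued to `E`
  let e := finSumFinEquiv (m := n) (n := m)
  let N₀ : Matrix (Fin n ⊕ Fin m) (Fin n ⊕ Fin m) A[X] :=
    Matrix.fromBlocks ((u * Polynomial.X ^ j) • Ec) (u • β) (v • α) ((v * F) • Ec')
  let Gc : Matrix (Fin n ⊕ Fin m) (Fin n) A[T;T⁻¹] :=
    Matrix.fromRows ((toT (u * Polynomial.X ^ j)) • Ec.map toT) (toT v • α.map toT)
  let Hc : Matrix (Fin n) (Fin n ⊕ Fin m) A[T;T⁻¹] :=
    Matrix.fromCols (Ec.map toT) ((T (-(j : ℤ)) : A[T;T⁻¹]) • β.map toT)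
  have hTj : ∀ p : A[X], T (-(j : ℤ)) * toT (p * Polynomial.X ^ j) = toT p := fun p => by
    rw [map_mul, toT_X_pow, mul_left_comm, ← T_add, neg_add_cancel, T_zero, mul_one]
  have hEc : Ec.map toT * Ec.map toT = Ec.map toT := by
    rw [← Matrix.map_mul, ← Matrix.map_mul, hE]
  have hHG : Hc * Gc = Ec.map toT := by
    rw [Matrix.fromCols_mul_fromRows, Matrix.mul_smul, hEc, Matrix.mul_smul, Matrix.smul_mul, smul_smul,
      ← Matrix.map_mul, hβα, map_toT_smul, smul_smul, ← add_smul, mul_assoc,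
      show T (-(j : ℤ)) * toT (Polynomial.X ^ j * F) = toT F by rw [mul_comm (Polynomial.X ^ j) F, hTj],
      ← map_mul, ← map_add, show u * Polynomial.X ^ j + v * F = 1 from huv, map_one, one_smul]
  have hGH : Gc * Hc = N₀.map toT := by
    rw [Matrix.fromRows_mul_fromCols, Matrix.fromBlocks_map]
    congr 1
    · rw [Matrix.smul_mul, hEc, map_toT_smul]
    · rw [Matrix.smul_mul, Matrix.mul_smul, smul_smul, ← Matrix.map_mul, hβl, mul_comm (toT _),
        hTj, map_toT_smul]
    · rw [Matrix.smul_mul, ← Matrix.map_mul, hαr, map_toT_smul]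
    · rw [Matrix.smul_mul, Matrix.mul_smul, ← Matrix.map_mul, hαβ, map_toT_smul, smul_smul, smul_smul,
        map_toT_smul, map_mul toT v, mul_assoc]
      congr 2
      rw [mul_comm (Polynomial.X ^ j) F, hTj]
  have hEH : Ec.map toT * Hc = Hc := by
    rw [Matrix.mul_fromCols, hEc, Matrix.mul_smul, ← Matrix.map_mul, hβl]
  have hN₀ : N₀ * N₀ = N₀ := Matrix.map_injective toT_injective (by
    show (N₀ * N₀).map toT = N₀.map toT
    rw [Matrix.map_mul, ← hGH, Matrix.mul_assoc, ← Matrix.mul_assoc Hc, hHG, hEH])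
  let N := N₀.submatrix e.symm e.symm
  have hN : N * N = N := by rw [Matrix.submatrix_mul_equiv, hN₀]
  let G := Gc.submatrix e.symm (Equiv.refl (Fin n))
  let H := Hc.submatrix (Equiv.refl (Fin n)) e.symm
  have hHG' : H * G = Ec.map toT := by
    rw [Matrix.submatrix_mul_equiv, hHG]; rfl
  have hGH' : G * H = N.map toT := by
    rw [Matrix.submatrix_mul_equiv, hGH]; rfl
  have hq := horrocks_matrix N Ec H G hN (by rw [← Matrix.map_mul, hE])
    (by rw [hHG', map_C_map_toT, map_C_map_toS]) hGH'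
  -- evaluate at `1`
  let φ₁ : A[T;T⁻¹] →+* A := LaurentPolynomial.eval₂ (RingHom.id A) 1
  have hφ₁ : φ₁.comp (toT : A[X] →ₐ[A] _).toRingHom = Polynomial.evalRingHom 1 := RingHom.ext fun p => by
    show φ₁ (Polynomial.toLaurent p) = p.eval 1
    rw [LaurentPolynomial.eval₂_toLaurent, Units.val_one]
    rfl
  have h1 : Eqv (N.map (Polynomial.evalRingHom 1)) E := by
    refine ⟨H.map φ₁, G.map φ₁, ?_, ?_⟩
    · rw [← Matrix.map_mul, hHG']
      refine Matrix.ext fun i k => ?_
      show φ₁.comp (toT : A[X] →ₐ[A] _).toRingHom (Polynomial.C (E i k)) = E i k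
      rw [hφ₁]
      simp
    · rw [← Matrix.map_mul, hGH']
      refine Matrix.ext fun i k => ?_
      show φ₁.comp (toT : A[X] →ₐ[A] _).toRingHom (N i k) = _
      rw [hφ₁]
      rfl
  have h2 : Eqv (N.map (Polynomial.evalRingHom 1)) (N.map (Polynomial.evalRingHom 0)) := by
    have := hq.map (Polynomial.evalRingHom 1)
    rwa [map_map_ringHom, show (Polynomial.evalRingHom (1 : A)).comp
      (Polynomial.C.comp (Polynomial.evalRingHom 0)) = Polynomial.evalRingHom 0 from
        RingHom.ext fun p => by simp] at this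
  -- evaluate at `0`
  have hu0 : u.eval 0 * (0 : A) ^ j + v.eval 0 = 1 := by
    have := congrArg (Polynomial.eval 0) huv
    simpa [← Polynomial.coeff_zero_eq_eval_zero F, hF0] using this
  have hj : (0 : A) ^ j = 0 := zero_pow (by omega)
  rw [hj, mul_zero, zero_add] at hu0
  set ev := Polynomial.evalRingHom (0 : A)
  have hev : ∀ {ι : Type} (M : Matrix ι ι A), (M.map Polynomial.C).map ev = M := fun M =>
    Matrix.ext fun i k => by simp [ev]
  have hxF : ev (Polynomial.X ^ j * F) = 0 := by simp [ev, hj]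
  have hαβ0 : α.map ev * β.map ev = 0 := by
    rw [← Matrix.map_mul, hαβ]; ext i k; simp [hxF, Matrix.smul_apply]
  have hβα0 : β.map ev * α.map ev = 0 := by
    rw [← Matrix.map_mul, hβα]; ext i k; simp [hxF, Matrix.smul_apply]
  have h0 : Eqv (N.map ev) E' := by
    refine ⟨(Matrix.fromCols (α.map ev) E').submatrix (Equiv.refl _) e.symm,
      (Matrix.fromRows (u.eval 0 • β.map ev) E').submatrix e.symm (Equiv.refl _), ?_, ?_⟩
    · rw [Matrix.submatrix_mul_equiv, Matrix.fromCols_mul_fromRows, Matrix.mul_smul, hαβ0, smul_zero,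
        zero_add, hE']
      rfl
    · rw [Matrix.submatrix_mul_equiv, Matrix.fromRows_mul_fromCols, ← Matrix.submatrix_map,
        Matrix.fromBlocks_map]
      congr 2
      · rw [Matrix.smul_mul, hβα0, smul_zero]
        ext i k; simp [ev, hj]
      · rw [Matrix.smul_mul, ← hev E', ← Matrix.map_mul, hβr]
        ext i k; simp [ev]
      · rw [← hev E', ← Matrix.map_mul, hαl]
        ext i k; simp [ev, hu0]
      · rw [hE']
        ext i k; simp [ev, hu0, ← Polynomial.coeff_zero_eq_eval_zero F, hF0, Ec']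
  have hidN : ∀ c : A, N.map (Polynomial.evalRingHom c) * N.map (Polynomial.evalRingHom c) =
      N.map (Polynomial.evalRingHom c) := fun c => by rw [← Matrix.map_mul, hN]
  exact h1.symm.trans (Eqv.trans h2 h0 (hidN 1) hE') hE hE'

theorem nonempty_linearEquiv_of_monicLocalization {A : Type*} [CommRing A] (M : Submonoid A[X])
    (hM : ∀ f : A[X], f ∈ M ↔ f.Monic) {At : Type*} [CommRing At] [Algebra A[X] At] [IsLocalization M At]
    [Algebra A At] [IsScalarTower A A[X] At] {P P' : Type*} [AddCommGroup P] [Module A P]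
    [Module.Finite A P] [Module.Projective A P] [AddCommGroup P'] [Module A P'] [Module.Finite A P']
    [Module.Projective A P'] (h : (At ⊗[A] P) ≃ₗ[At] (At ⊗[A] P')) : Nonempty (P ≃ₗ[A] P') := by
  classical
  obtain ⟨n, i, p, hp⟩ := exists_retract A P
  obtain ⟨m, i', p', hp'⟩ := exists_retract A P'
  set E := LinearMap.toMatrix' (i ∘ₗ p)
  set E' := LinearMap.toMatrix' (i' ∘ₗ p')
  set g := LinearMap.toMatrix' (inclS At i' ∘ₗ h.toLinearMap ∘ₗ projS At p)
  set k := LinearMap.toMatrix' (inclS At i ∘ₗ h.symm.toLinearMap ∘ₗ projS At p')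
  have hg : ∀ v, g *ᵥ v = inclS At i' (h (projS At p v)) := fun v => by
    rw [← Matrix.toLin'_apply, Matrix.toLin'_toMatrix']; rfl
  have hk : ∀ v, k *ᵥ v = inclS At i (h.symm (projS At p' v)) := fun v => by
    rw [← Matrix.toLin'_apply, Matrix.toLin'_toMatrix']; rfl
  have hkg : k * g = E.map (algebraMap A At) := Matrix.ext_of_mulVec_single fun j => by
    rw [← Matrix.mulVec_mulVec, hk, hg, projS_inclS i' p' hp', LinearEquiv.symm_apply_apply, inclS_projS]
  have hgk : g * k = E'.map (algebraMap A At) := Matrix.ext_of_mulVec_single fun j => by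
    rw [← Matrix.mulVec_mulVec, hg, hk, projS_inclS i p hp, LinearEquiv.apply_symm_apply, inclS_projS]
  have hgE : g * E.map (algebraMap A At) = g := Matrix.ext_of_mulVec_single fun j => by
    rw [← Matrix.mulVec_mulVec, hg, hg, ← inclS_projS i p, projS_inclS i p hp]
  have hEg : E'.map (algebraMap A At) * g = g := Matrix.ext_of_mulVec_single fun j => by
    rw [← Matrix.mulVec_mulVec, hg, ← inclS_projS i' p', projS_inclS i' p' hp']
  have hkE : k * E'.map (algebraMap A At) = k := Matrix.ext_of_mulVec_single fun j => by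
    rw [← Matrix.mulVec_mulVec, hk, hk, ← inclS_projS i' p', projS_inclS i' p' hp']
  have hEk : E.map (algebraMap A At) * k = k := Matrix.ext_of_mulVec_single fun j => by
    rw [← Matrix.mulVec_mulVec, hk, ← inclS_projS i p, projS_inclS i p hp]
  have hE := toMatrix'_idem i p hp
  have hE' := toMatrix'_idem i' p' hp'
  have hC : ∀ {a b : ℕ} (X : Matrix (Fin a) (Fin b) A),
      (X.map Polynomial.C).map (algebraMap A[X] At) = X.map (algebraMap A At) := fun X =>
    Matrix.ext fun x y => (IsScalarTower.algebraMap_apply A A[X] At (X x y)).symm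
  obtain ⟨f₁, hf₁, a₀, ha₀⟩ := exists_lift_matrix M g
  obtain ⟨f₂, hf₂, b₀, hb₀⟩ := exists_lift_matrix M k
  set Ec := E.map (Polynomial.C : A →+* A[X])
  set Ec' := E'.map (Polynomial.C : A →+* A[X])
  set a := Ec' * a₀ * Ec
  set b := Ec * b₀ * Ec'
  have hma : a.map (algebraMap A[X] At) = algebraMap A[X] At f₁ • g := by
    rw [Matrix.map_mul, Matrix.map_mul, ha₀, hC, hC, Matrix.mul_smul, Matrix.smul_mul, hEg, hgE]
  have hmb : b.map (algebraMap A[X] At) = algebraMap A[X] At f₂ • k := by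
    rw [Matrix.map_mul, Matrix.map_mul, hb₀, hC, hC, Matrix.mul_smul, Matrix.smul_mul, hEk, hkE]
  obtain ⟨g₁, hg₁, hg₁'⟩ := exists_kill_matrix (S := At) M (D := a * b) (D' := (f₁ * f₂) • Ec') (by
    rw [Matrix.map_mul, hma, hmb, Matrix.smul_mul, Matrix.mul_smul, smul_smul, hgk, ← hC E', ← map_mul]
    exact Matrix.ext fun x y => (map_mul _ _ _).symm)
  obtain ⟨g₂, hg₂, hg₂'⟩ := exists_kill_matrix (S := At) M (D := b * a) (D' := (f₁ * f₂) • Ec) (by
    rw [Matrix.map_mul, hma, hmb, Matrix.smul_mul, Matrix.mul_smul, smul_smul, hkg, ← hC E, ← map_mul,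
      mul_comm f₂]
    exact Matrix.ext fun x y => (map_mul _ _ _).symm)
  have hEc : Ec * Ec = Ec := by rw [← Matrix.map_mul, hE]
  have hEc' : Ec' * Ec' = Ec' := by rw [← Matrix.map_mul, hE']
  have hmon : (g₁ * g₂ * (f₁ * f₂)).Monic := (hM _).mp (mul_mem (mul_mem hg₁ hg₂) (mul_mem hf₁ hf₂))
  have hle : Eqv E E' := by
    refine eqv_of_monic E E' hE hE' _ hmon (g₁ • a) (g₂ • b) ?_ ?_ ?_ ?_ ?_ ?_
    · rw [Matrix.mul_smul, ← Matrix.mul_assoc, ← Matrix.mul_assoc, hEc']
    · rw [Matrix.smul_mul, Matrix.mul_assoc _ Ec Ec, hEc]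
    · rw [Matrix.mul_smul, ← Matrix.mul_assoc, ← Matrix.mul_assoc, hEc]
    · rw [Matrix.smul_mul, Matrix.mul_assoc _ Ec' Ec', hEc']
    · rw [Matrix.smul_mul, Matrix.mul_smul, smul_comm, hg₁', smul_smul, smul_smul, mul_comm g₁ g₂, mul_assoc]
    · rw [Matrix.smul_mul, Matrix.mul_smul, smul_comm, hg₂', smul_smul, smul_smul, mul_assoc]
  exact nonempty_linearEquiv_of_eqv i p i' p' (fun x => LinearMap.congr_fun hp x)
    (fun x => LinearMap.congr_fun hp' x)
    (fun v => by rw [← Matrix.toLin'_apply, Matrix.toLin'_toMatrix']; rfl)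
    (fun v => by rw [← Matrix.toLin'_apply, Matrix.toLin'_toMatrix']; rfl) hle

end L02.CAlg.Horrocks
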