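import Groth.Agent.L02.CAlg.Horrocks.Global

/-!
An extended module extends to the projective line.
-/

set_option autoImplicit false

universe u

open Polynomial LaurentPolynomial TensorProduct

namespace L02.CAlg.Horrocks

theorem exists_bundle_of_extended (A : Type u) [CommRing A] (M : Type u) [AddCommGroup M] [Module A[X] M]
    (P : Type u) [AddCommGroup P] [Module A P] (l : M ≃ₗ[A[X]] (A[X] ⊗[A] P)) :
    ∃ e : (A[T;T⁻¹] ⊗[A[X]] M) →ₛₗ[(LaurentPolynomial.invert (R := A)).toRingEquiv.toRingHom]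
      (A[T;T⁻¹] ⊗[A[X]] M), Function.Bijective e := by
  haveI : IsScalarTower A A[X] A[T;T⁻¹] :=
    IsScalarTower.of_algebraMap_eq fun a => (Polynomial.toLaurent_C a).symm
  let c : (A[T;T⁻¹] ⊗[A[X]] M) ≃ₗ[A[T;T⁻¹]] (A[T;T⁻¹] ⊗[A] P) :=
    (LinearEquiv.baseChange A[X] A[T;T⁻¹] M (A[X] ⊗[A] P) l).trans
      (AlgebraTensorModule.cancelBaseChange A A[X] A[T;T⁻¹] A[T;T⁻¹] P)
  let τ : (A[T;T⁻¹] ⊗[A] P) ≃ₗ[A] (A[T;T⁻¹] ⊗[A] P) :=
    TensorProduct.congr (LaurentPolynomial.invert (R := A)).toLinearEquiv (LinearEquiv.refl A P)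
  have hτ : ∀ (b : A[T;T⁻¹]) x, τ (b • x) = LaurentPolynomial.invert b • τ x := by
    intro b x
    induction x using TensorProduct.induction_on with
    | zero => simp
    | tmul y z => simp [τ, TensorProduct.smul_tmul']
    | add y z hy hz => rw [smul_add, map_add, hy, hz, map_add, smul_add]
  refine ⟨{ toFun := fun x => c.symm (τ (c x)), map_add' := fun x y => by simp only [map_add],
            map_smul' := fun b x => by rw [c.map_smul, hτ, c.symm.map_smul]; rfl }, ?_⟩
  exact c.symm.bijective.comp (τ.bijective.comp c.bijective)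

end L02.CAlg.Horrocks
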