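import Mathlib.RingTheory.Localization.AtPrime.Basic
import Mathlib.Algebra.Polynomial.Inductions
import Mathlib.Algebra.Polynomial.Eval.Coeff
import Mathlib.Data.Matrix.Basic
import Mathlib.RingTheory.Ideal.Maximal
import Mathlib.Tactic

/-!
Quillen patching for idempotent matrices over `A[X]`.
-/

set_option autoImplicit false

open Polynomial

namespace L02.CAlg.Horrocks

/-- Idempotent matrices with isomorphic images. -/
def Eqv {R ι κ : Type*} [CommRing R] [Fintype ι] [Fintype κ] (E : Matrix ι ι R) (F : Matrix κ κ R) :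
    Prop :=
  ∃ (U : Matrix κ ι R) (V : Matrix ι κ R), U * V = F ∧ V * U = E

theorem Eqv.refl {R ι : Type*} [CommRing R] [Fintype ι] {E : Matrix ι ι R} (h : E * E = E) :
    Eqv E E := ⟨E, E, h, h⟩

theorem Eqv.trans {R ι κ μ : Type*} [CommRing R] [Fintype ι] [Fintype κ] [Fintype μ]
    {E : Matrix ι ι R} {F : Matrix κ κ R} {G : Matrix μ μ R} (h₁ : Eqv E F) (h₂ : Eqv F G)
    (hE : E * E = E) (hG : G * G = G) : Eqv E G := by
  obtain ⟨U₁, V₁, a₁, b₁⟩ := h₁
  obtain ⟨U₂, V₂, a₂, b₂⟩ := h₂
  refine ⟨U₂ * U₁, V₁ * V₂, ?_, ?_⟩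
  · rw [Matrix.mul_assoc, ← Matrix.mul_assoc U₁, a₁, ← b₂, Matrix.mul_assoc V₂, ← Matrix.mul_assoc,
      a₂, hG]
  · rw [Matrix.mul_assoc, ← Matrix.mul_assoc V₂, b₂, ← a₁, Matrix.mul_assoc U₁, ← Matrix.mul_assoc,
      b₁, hE]

theorem Eqv.map {R S ι κ : Type*} [CommRing R] [CommRing S] [Fintype ι] [Fintype κ]
    {E : Matrix ι ι R} {F : Matrix κ κ R} (h : Eqv E F) (f : R →+* S) :
    Eqv (E.map f) (F.map f) := by
  obtain ⟨U, V, a, b⟩ := h
  exact ⟨U.map f, V.map f, by rw [← Matrix.map_mul, a], by rw [← Matrix.map_mul, b]⟩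

theorem map_map_ringHom {R S T ι κ : Type*} [Semiring R] [Semiring S] [Semiring T]
    (E : Matrix ι κ R) (f : R →+* S) (g : S →+* T) : (E.map f).map g = E.map (g.comp f) := rfl

/-- Denominators can be cleared along `f`. -/
def ClearsDenom {A R S : Type*} [CommRing A] [CommRing R] [CommRing S] (M : Submonoid A)
    (ι : A →+* R) (f : R →+* S) : Prop :=
  (∀ z : S, ∃ s ∈ M, ∃ w, f w = f (ι s) * z) ∧ ∀ w : R, f w = 0 → ∃ s ∈ M, ι s * w = 0

theorem ClearsDenom.polynomial {A R S : Type*} [CommRing A] [CommRing R] [CommRing S]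
    {M : Submonoid A} {ι : A →+* R} {f : R →+* S} (h : ClearsDenom M ι f) :
    ClearsDenom M (C.comp ι) (mapRingHom f) := by
  refine ⟨fun z => ?_, fun w hw => ?_⟩
  · induction z using Polynomial.induction_on' with
    | add p q hp hq =>
      obtain ⟨s, hs, a, ha⟩ := hp
      obtain ⟨t, ht, b, hb⟩ := hq
      refine ⟨s * t, mul_mem hs ht, C (ι t) * a + C (ι s) * b, ?_⟩
      simp only [map_add, map_mul, RingHom.comp_apply, ha, hb]
      ring
    | monomial n c =>
      obtain ⟨s, hs, w, hw⟩ := h.1 c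
      refine ⟨s, hs, monomial n w, ?_⟩
      simp [hw, C_mul_monomial]
  · have : ∀ k, ∃ s ∈ M, ι s * w.coeff k = 0 := fun k => h.2 _ (by
      have := congrArg (fun p => p.coeff k) hw
      simpa using this)
    choose s hs hs' using this
    refine ⟨∏ k ∈ w.support, s k, prod_mem fun k _ => hs k, ?_⟩
    ext k
    rw [RingHom.comp_apply, coeff_C_mul, coeff_zero]
    by_cases hk : k ∈ w.support
    · rw [← Finset.prod_erase_mul _ _ hk, map_mul, mul_assoc, hs' k, mul_zero]
    · rw [notMem_support_iff.mp hk, mul_zero]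

theorem clearsDenom_localization {A S : Type*} [CommRing A] [CommRing S] [Algebra A S]
    (M : Submonoid A) [IsLocalization M S] : ClearsDenom M (RingHom.id A) (algebraMap A S) := by
  refine ⟨fun z => ?_, fun w hw => ?_⟩
  · obtain ⟨w, ⟨s, hs⟩, rfl⟩ := IsLocalization.exists_mk'_eq M z
    exact ⟨s, hs, w, (IsLocalization.mk'_spec' S w ⟨s, hs⟩).symm⟩
  · obtain ⟨⟨s, hs⟩, hsw⟩ := (IsLocalization.map_eq_zero_iff M S w).mp hw
    exact ⟨s, hs, hsw⟩

section
variable {A : Type*} [CommRing A]

/-- `p(x) ↦ p(x + b y)`. -/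
noncomputable def shift (b : A) : A[X] →+* A[X][X] :=
  eval₂RingHom (C.comp C) (C X + C (C b) * X)

/-- `y ↦ r y`. -/
noncomputable def scale (r : A) : A[X][X] →+* A[X][X] := eval₂RingHom C (C (C r) * X)

@[simp] theorem shift_C (b a : A) : shift b (C a) = C (C a) := by simp [shift]
@[simp] theorem shift_X (b : A) : shift b X = C X + C (C b) * X := by simp [shift]
@[simp] theorem scale_C (r : A) (p : A[X]) : scale r (C p) = C p := by simp [scale]
@[simp] theorem scale_X (r : A) : scale r X = C (C r) * X := by simp [scale]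

theorem scale_comp_shift (r b : A) : (scale r).comp (shift b) = shift (r * b) := by
  refine Polynomial.ringHom_ext (fun a => by simp) ?_
  simp only [RingHom.comp_apply, shift_X, map_add, map_mul, scale_C, scale_X]
  ring

theorem shift_zero : shift (0 : A) = C := by
  refine Polynomial.ringHom_ext (fun a => by simp) ?_
  simp

theorem eval_zero_comp_shift (b : A) :
    (evalRingHom (0 : A[X])).comp (shift b) = RingHom.id A[X] := by
  refine Polynomial.ringHom_ext (fun a => by simp) ?_
  simp

theorem map_comp_shift {B : Type*} [CommRing B] (f : A →+* B) (b : A) :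
    (mapRingHom (mapRingHom f)).comp (shift b) = (shift (f b)).comp (mapRingHom f) := by
  refine Polynomial.ringHom_ext (fun a => by simp) ?_
  simp

theorem map_comp_scale {B : Type*} [CommRing B] (f : A →+* B) (r : A) :
    (mapRingHom (mapRingHom f)).comp (scale r) = (scale (f r)).comp (mapRingHom (mapRingHom f)) := by
  refine Polynomial.ringHom_ext (fun a => by simp) ?_
  simp

theorem scale_eq_zero (r : A) (p : A[X][X]) (h0 : p.coeff 0 = 0) (h : C (C r) * p = 0) :
    scale r p = 0 := by
  obtain ⟨q, rfl⟩ := (X_dvd_iff.mpr h0)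
  have hq : C (C r) * q = 0 := by
    ext1 k
    have := congrArg (fun p => p.coeff (k + 1)) h
    simpa [coeff_C_mul, coeff_X_mul] using this
  rw [map_mul, scale_X, mul_assoc, mul_comm X, ← mul_assoc]
  have := congrArg (scale r) hq
  rw [map_mul, scale_C, map_zero] at this
  rw [this, zero_mul]

end

theorem exists_notMem_eqv_shift {A : Type*} [CommRing A] {n : ℕ}
    (E : Matrix (Fin n) (Fin n) A[X]) (hE : E * E = E) (m : Ideal A) [m.IsPrime] {r : ℕ}
    (h : Eqv (E.map (mapRingHom (algebraMap A (Localization.AtPrime m))))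
      (1 : Matrix (Fin r) (Fin r) (Localization.AtPrime m)[X])) :
    ∃ s : A, s ∉ m ∧ Eqv (E.map C) (E.map (shift s)) := by
  classical
  obtain ⟨U₀, V₀, a₀, b₀⟩ := h
  set f := algebraMap A (Localization.AtPrime m)
  set g := mapRingHom (mapRingHom f)
  set Em := E.map (mapRingHom f)
  set sh := shift (1 : Localization.AtPrime m)
  -- the isomorphism between `E(x)` and `E(x+y)` over the localization
  set U := V₀.map sh * U₀.map C
  set V := V₀.map C * U₀.map sh
  have hUV : U * V = Em.map sh := by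
    rw [Matrix.mul_assoc, ← Matrix.mul_assoc (U₀.map C), ← Matrix.map_mul, a₀,
      Matrix.map_one _ (map_zero _) (map_one _), Matrix.one_mul, ← Matrix.map_mul, b₀]
  have hVU : V * U = Em.map C := by
    rw [Matrix.mul_assoc, ← Matrix.mul_assoc (U₀.map sh), ← Matrix.map_mul, a₀,
      Matrix.map_one _ (map_zero _) (map_one _), Matrix.one_mul, ← Matrix.map_mul, b₀]
  have hev : ∀ W : Matrix (Fin n) (Fin r) (Localization.AtPrime m)[X],
      (W.map sh).map (evalRingHom 0) = W ∧ (W.map C).map (evalRingHom 0) = W := fun W =>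
    ⟨by rw [map_map_ringHom, eval_zero_comp_shift]; rfl, by ext i j; simp⟩
  have hev' : ∀ W : Matrix (Fin r) (Fin n) (Localization.AtPrime m)[X],
      (W.map sh).map (evalRingHom 0) = W ∧ (W.map C).map (evalRingHom 0) = W := fun W =>
    ⟨by rw [map_map_ringHom, eval_zero_comp_shift]; rfl, by ext i j; simp⟩
  have hU0 : ∀ i j, (U i j).coeff 0 = Em i j := fun i j => by
    have : U.map (evalRingHom 0) = Em := by
      rw [Matrix.map_mul, (hev _).1, (hev' _).2, b₀]
    rw [← this, Matrix.map_apply, coe_evalRingHom, coeff_zero_eq_eval_zero]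
  have hV0 : ∀ i j, (V i j).coeff 0 = Em i j := fun i j => by
    have : V.map (evalRingHom 0) = Em := by
      rw [Matrix.map_mul, (hev _).2, (hev' _).1, b₀]
    rw [← this, Matrix.map_apply, coe_evalRingHom, coeff_zero_eq_eval_zero]
  have hcd := (clearsDenom_localization (S := Localization.AtPrime m) m.primeCompl).polynomial.polynomial
  -- a common denominator
  have hcom : ∀ W : Matrix (Fin n) (Fin n) (Localization.AtPrime m)[X][X],
      ∃ s ∈ m.primeCompl, ∀ i j, ∃ w, g w = C (C (f s)) * W i j := by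
    intro W
    choose s hs w hw using fun ij : Fin n × Fin n => hcd.1 (W ij.1 ij.2)
    refine ⟨∏ ij, s ij, prod_mem fun ij _ => hs ij,
      fun i j => ⟨C (C (∏ k ∈ Finset.univ.erase (i, j), s k)) * w (i, j), ?_⟩⟩
    rw [map_mul, hw (i, j), ← Finset.prod_erase_mul _ _ (Finset.mem_univ (i, j))]
    simp only [g, RingHom.comp_apply, RingHom.id_apply, coe_mapRingHom, map_C, map_mul]
    ring
  obtain ⟨s₁, hs₁, hU'⟩ := hcom (U.map divX)
  obtain ⟨s₂, hs₂, hV'⟩ := hcom (V.map divX)
  set s := s₁ * s₂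
  have hlift : ∀ (W : Matrix (Fin n) (Fin n) (Localization.AtPrime m)[X][X]),
      (∀ i j, (W i j).coeff 0 = Em i j) → (∀ i j, ∃ w, g w = C (C (f s)) * divX (W i j)) →
      ∃ W' : Matrix (Fin n) (Fin n) A[X][X], W'.map g = W.map (scale (f s)) ∧
        W'.map (evalRingHom 0) = E := by
    intro W h0 hw
    choose w hw using hw
    refine ⟨Matrix.of fun i j => C (E i j) + X * scale s (w i j), ?_, ?_⟩
    · ext1 i j
      have e2 : g (scale s (w i j)) = scale (f s) (g (w i j)) := RingHom.congr_fun (map_comp_scale f s) _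
      conv_rhs => rw [Matrix.map_apply, ← X_mul_divX_add (W i j), h0]
      simp only [Matrix.map_apply, Matrix.of_apply, map_add, map_mul, e2, hw, scale_C, scale_X]
      rw [show g (C (E i j)) = C (Em i j) by simp [g, Em], show g (X : A[X][X]) = X by simp [g]]
      ring
    · ext1 i j
      simp
  obtain ⟨Ut, hUt, hUt0⟩ := hlift U hU0 fun i j => by
    obtain ⟨w, hw⟩ := hU' i j
    refine ⟨C (C s₂) * w, ?_⟩
    rw [map_mul, hw, Matrix.map_apply]
    simp only [s, g, coe_mapRingHom, map_C, map_mul]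
    ring
  obtain ⟨Vt, hVt, hVt0⟩ := hlift V hV0 fun i j => by
    obtain ⟨w, hw⟩ := hV' i j
    refine ⟨C (C s₁) * w, ?_⟩
    rw [map_mul, hw, Matrix.map_apply]
    simp only [s, g, coe_mapRingHom, map_C, map_mul]
    ring
  set D₁ := Ut * Vt - E.map (shift s)
  set D₂ := Vt * Ut - E.map C
  have hgD₁ : ∀ i j, g (D₁ i j) = 0 := by
    suffices D₁.map g = 0 from fun i j => Matrix.ext_iff.mpr this i j
    rw [Matrix.map_sub _ (map_sub g), Matrix.map_mul, hUt, hVt, ← Matrix.map_mul, hUV,
      map_map_ringHom, map_map_ringHom, map_map_ringHom, map_comp_shift]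
    simp only [sh, scale_comp_shift, mul_one]
    ext1 i j; simp
  have hgD₂ : ∀ i j, g (D₂ i j) = 0 := by
    suffices D₂.map g = 0 from fun i j => Matrix.ext_iff.mpr this i j
    rw [Matrix.map_sub _ (map_sub g), Matrix.map_mul, hUt, hVt, ← Matrix.map_mul, hVU]
    ext1 i j
    simp [g, Em]
  have h0D₁ : ∀ i j, (D₁ i j).coeff 0 = 0 := by
    suffices D₁.map (evalRingHom 0) = 0 from fun i j => by
      rw [coeff_zero_eq_eval_zero]; exact Matrix.ext_iff.mpr this i j
    rw [Matrix.map_sub _ (map_sub _), Matrix.map_mul, hUt0, hVt0, hE, map_map_ringHom,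
      eval_zero_comp_shift]
    exact sub_self _
  have h0D₂ : ∀ i j, (D₂ i j).coeff 0 = 0 := by
    suffices D₂.map (evalRingHom 0) = 0 from fun i j => by
      rw [coeff_zero_eq_eval_zero]; exact Matrix.ext_iff.mpr this i j
    rw [Matrix.map_sub _ (map_sub _), Matrix.map_mul, hUt0, hVt0, hE]
    ext1 i j
    simp
  choose t₁ ht₁ ht₁' using fun ij : Fin n × Fin n => hcd.2 _ (hgD₁ ij.1 ij.2)
  choose t₂ ht₂ ht₂' using fun ij : Fin n × Fin n => hcd.2 _ (hgD₂ ij.1 ij.2)
  set t := (∏ ij, t₁ ij) * ∏ ij, t₂ ij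
  have htm : t * s ∈ m.primeCompl :=
    mul_mem (mul_mem (prod_mem fun ij _ => ht₁ ij) (prod_mem fun ij _ => ht₂ ij)) (mul_mem hs₁ hs₂)
  refine ⟨t * s, htm, Ut.map (scale t), Vt.map (scale t), ?_, ?_⟩
  · have : D₁.map (scale t) = 0 := by
      ext1 i j
      refine scale_eq_zero t _ (h0D₁ i j) ?_
      have h1 : C (C (t₁ (i, j))) * D₁ i j = 0 := ht₁' (i, j)
      simp only [t, ← Finset.prod_erase_mul _ t₁ (Finset.mem_univ (i, j)), map_mul]
      linear_combination (C (C (∏ k ∈ Finset.univ.erase (i, j), t₁ k)) * C (C (∏ ij, t₂ ij))) * h1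
    rw [Matrix.map_sub _ (map_sub _), Matrix.map_mul, map_map_ringHom, scale_comp_shift,
      sub_eq_zero] at this
    exact this
  · have : D₂.map (scale t) = 0 := by
      ext1 i j
      refine scale_eq_zero t _ (h0D₂ i j) ?_
      have h1 : C (C (t₂ (i, j))) * D₂ i j = 0 := ht₂' (i, j)
      simp only [t, ← Finset.prod_erase_mul _ t₂ (Finset.mem_univ (i, j)), map_mul]
      linear_combination (C (C (∏ k ∈ Finset.univ.erase (i, j), t₂ k)) * C (C (∏ ij, t₁ ij))) * h1
    rw [Matrix.map_sub _ (map_sub _), Matrix.map_mul, sub_eq_zero] at this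
    rw [this]
    ext1 i j
    simp

/-- Quillen patching: a locally trivial idempotent matrix over `A[X]` is extended from `A`. -/
theorem quillen {A : Type*} [CommRing A] {n : ℕ} (E : Matrix (Fin n) (Fin n) A[X]) (hE : E * E = E)
    (h : ∀ (m : Ideal A) [m.IsMaximal], ∃ r : ℕ,
      Eqv (E.map (mapRingHom (algebraMap A (Localization.AtPrime m))))
        (1 : Matrix (Fin r) (Fin r) (Localization.AtPrime m)[X])) :
    Eqv E (E.map (C.comp (evalRingHom 0))) := by
  have hidem : ∀ (S : Type _) [CommRing S] (φ : A[X] →+* S), E.map φ * E.map φ = E.map φ :=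
    fun S _ φ => by rw [← Matrix.map_mul, hE]
  let J : Ideal A :=
    { carrier := {b | Eqv (E.map C) (E.map (shift b))}
      zero_mem' := by
        show Eqv _ _
        rw [shift_zero]
        exact .refl (hidem _ C)
      add_mem' := by
        intro a b ha hb
        have h2 := Eqv.map hb (eval₂RingHom (shift a) X)
        rw [map_map_ringHom, map_map_ringHom,
          show (eval₂RingHom (shift a) X).comp C = shift a from RingHom.ext fun p => by simp,
          show (eval₂RingHom (shift a) X).comp (shift b) = shift (a + b) from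
            Polynomial.ringHom_ext (fun c => by simp) (by simp; ring)] at h2
        exact Eqv.trans ha h2 (hidem _ C) (hidem _ _)
      smul_mem' := by
        intro r b hb
        have h2 := Eqv.map hb (scale r)
        rw [map_map_ringHom, map_map_ringHom, scale_comp_shift,
          show (scale r).comp C = C from RingHom.ext fun p => scale_C r p] at h2
        exact h2 }
  have hJ : J = ⊤ := by
    by_contra hne
    obtain ⟨m, hm, hle⟩ := Ideal.exists_le_maximal J hne
    obtain ⟨r, hr⟩ := h m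
    obtain ⟨s, hs, hs'⟩ := exists_notMem_eqv_shift E hE m hr
    exact hs (hle hs')
  have h1 : Eqv (E.map C) (E.map (shift 1)) := show (1 : A) ∈ J from hJ ▸ Submodule.mem_top
  have h2 := h1.map (eval₂RingHom ((C : A →+* A[X]).comp (evalRingHom 0)) X)
  rw [map_map_ringHom, map_map_ringHom,
    show (eval₂RingHom ((C : A →+* A[X]).comp (evalRingHom 0)) X).comp C =
      (C : A →+* A[X]).comp (evalRingHom 0) from RingHom.ext fun p => by simp,
    show (eval₂RingHom ((C : A →+* A[X]).comp (evalRingHom 0)) X).comp (shift 1) = RingHom.id A[X] from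
      Polynomial.ringHom_ext (fun c => by simp) (by simp)] at h2
  obtain ⟨U, V, a, b⟩ := h2
  exact ⟨V, U, b, by simpa using a⟩

end L02.CAlg.Horrocks
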