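import Mathlib.Algebra.Polynomial.Laurent
import Mathlib.Algebra.Polynomial.Reverse
import Mathlib.RingTheory.Polynomial.Basic
import Mathlib.RingTheory.AdjoinRoot
import Mathlib.RingTheory.LocalRing.ResidueField.Basic
import Mathlib.RingTheory.Nakayama
import Mathlib.LinearAlgebra.FreeModule.PID
import Mathlib.LinearAlgebra.Matrix.NonsingularInverse
import Groth.Agent.L02.CAlg.Horrocks.Quillen

/-!
Horrocks' theorem over a local ring, for idempotent matrices.
-/

set_option autoImplicit false

open Polynomial IsLocalRing Matrix LaurentPolynomial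

namespace L02.CAlg.Horrocks

variable {A : Type*} [CommRing A]

/-- The chart at infinity `X ↦ T⁻¹`. -/
noncomputable def toS : A[X] →ₐ[A] A[T;T⁻¹] :=
  (LaurentPolynomial.invert (R := A)).toAlgHom.comp Polynomial.toLaurentAlg

/-- The chart at zero. -/
noncomputable def toT : A[X] →ₐ[A] A[T;T⁻¹] := Polynomial.toLaurentAlg

theorem toT_X_pow (k : ℕ) : toT (Polynomial.X ^ k : A[X]) = T (k : ℤ) :=
  Polynomial.toLaurent_X_pow k

theorem toS_X_pow (k : ℕ) : toS (Polynomial.X ^ k : A[X]) = T (-(k : ℤ)) := by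
  show LaurentPolynomial.invert (toT (Polynomial.X ^ k)) = _
  rw [toT_X_pow, invert_T]

theorem toS_X : toS (Polynomial.X : A[X]) = T (-1) := by
  simpa using toS_X_pow (A := A) 1

theorem toT_injective : Function.Injective (toT : A[X] → A[T;T⁻¹]) := Polynomial.toLaurent_injective

theorem exists_toT_eq (b : A[T;T⁻¹]) : ∃ D : ℕ, ∀ d ≥ D, ∃ p : A[X], toT p = T (d : ℤ) * b := by
  obtain ⟨D, p, hp⟩ := exists_T_pow b
  refine ⟨D, fun d hd => ⟨Polynomial.X ^ (d - D) * p, ?_⟩⟩
  rw [map_mul, toT_X_pow, show toT p = Polynomial.toLaurent p from rfl, hp, mul_comm b, ← mul_assoc,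
    ← T_add]
  congr 2
  omega

theorem exists_toS_eq (b : A[T;T⁻¹]) : ∃ D : ℕ, ∀ d ≥ D, ∃ p : A[X], toS p = T (-(d : ℤ)) * b := by
  obtain ⟨D, hD⟩ := exists_toT_eq (LaurentPolynomial.invert b)
  refine ⟨D, fun d hd => ?_⟩
  obtain ⟨p, hp⟩ := hD d hd
  refine ⟨p, ?_⟩
  show LaurentPolynomial.invert (toT p) = _
  rw [hp, map_mul, invert_T, involutive_invert b]

theorem exists_toS_eq_matrix {ι κ : Type*} [Fintype ι] [Fintype κ] (M : Matrix ι κ A[T;T⁻¹]) :
    ∃ D : ℕ, ∀ d ≥ D, ∃ P : Matrix ι κ A[X], P.map toS = (T (-(d : ℤ)) : A[T;T⁻¹]) • M := by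
  choose D hD using fun ij : ι × κ => exists_toS_eq (M ij.1 ij.2)
  refine ⟨Finset.univ.sup D, fun d hd => ?_⟩
  choose p hp using fun ij : ι × κ => hD ij d ((Finset.le_sup (Finset.mem_univ ij)).trans hd)
  exact ⟨Matrix.of fun i j => p (i, j), Matrix.ext fun i j => hp (i, j)⟩

theorem exists_toT_eq_matrix {ι κ : Type*} [Fintype ι] [Fintype κ] (M : Matrix ι κ A[T;T⁻¹]) :
    ∃ D : ℕ, ∀ d ≥ D, ∃ P : Matrix ι κ A[X], P.map toT = (T (d : ℤ) : A[T;T⁻¹]) • M := by
  choose D hD using fun ij : ι × κ => exists_toT_eq (M ij.1 ij.2)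
  refine ⟨Finset.univ.sup D, fun d hd => ?_⟩
  choose p hp using fun ij : ι × κ => hD ij d ((Finset.le_sup (Finset.mem_univ ij)).trans hd)
  exact ⟨Matrix.of fun i j => p (i, j), Matrix.ext fun i j => hp (i, j)⟩

theorem exists_split (b : A[T;T⁻¹]) : ∃ p q : A[X], b = toT p + T (-1) * toS q := by
  induction b using LaurentPolynomial.induction_on' with
  | add b c hb hc =>
    obtain ⟨p, q, rfl⟩ := hb
    obtain ⟨p', q', rfl⟩ := hc
    exact ⟨p + p', q + q', by rw [map_add, map_add]; ring⟩
  | C_mul_T n a =>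
    have hC : ∀ (φ : A[X] →ₐ[A] A[T;T⁻¹]), φ (Polynomial.C a) = LaurentPolynomial.C a := fun φ => by
      rw [← Polynomial.algebraMap_eq, φ.commutes, LaurentPolynomial.C_eq_algebraMap]
    rcases le_or_gt 0 n with hn | hn
    · refine ⟨Polynomial.C a * Polynomial.X ^ n.toNat, 0, ?_⟩
      rw [map_mul, hC, toT_X_pow, map_zero, mul_zero, add_zero, Int.toNat_of_nonneg hn]
    · refine ⟨0, Polynomial.C a * Polynomial.X ^ (-n - 1).toNat, ?_⟩
      rw [map_mul, hC, toS_X_pow, map_zero, zero_add, mul_left_comm, ← T_add,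
        Int.toNat_of_nonneg (by omega)]
      congr 2
      omega

section Local
variable [IsLocalRing A]

/-- `𝔪 A[X]`. -/
noncomputable abbrev mP (A : Type*) [CommRing A] [IsLocalRing A] : Ideal A[X] :=
  (maximalIdeal A).map (Polynomial.C : A →+* A[X])

/-- `𝔪 A[T,T⁻¹]`. -/
noncomputable abbrev mB (A : Type*) [CommRing A] [IsLocalRing A] : Ideal A[T;T⁻¹] :=
  (maximalIdeal A).map (algebraMap A A[T;T⁻¹])

theorem map_mem_mB (φ : A[X] →ₐ[A] A[T;T⁻¹]) {p : A[X]} (hp : p ∈ mP A) : φ p ∈ mB A := by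
  have h := Ideal.mem_map_of_mem φ.toRingHom hp
  rw [Ideal.map_map, show φ.toRingHom.comp Polynomial.C = algebraMap A A[T;T⁻¹] from
    φ.comp_algebraMap] at h
  exact h

theorem mem_mP_of_toT {p : A[X]} (hp : toT p ∈ mB A) : p ∈ mP A := by
  have h : algebraMap A[X] A[T;T⁻¹] p ∈ (mP A).map (algebraMap A[X] A[T;T⁻¹]) := by
    rw [Ideal.map_map, show (algebraMap A[X] A[T;T⁻¹]).comp Polynomial.C = algebraMap A A[T;T⁻¹] from
      (toT : A[X] →ₐ[A] A[T;T⁻¹]).comp_algebraMap]
    exact hp
  obtain ⟨m, hm, hmp⟩ := (IsLocalization.algebraMap_mem_map_algebraMap_iff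
    (Submonoid.powers (Polynomial.X : A[X])) A[T;T⁻¹] _ _).mp h
  obtain ⟨k, rfl⟩ := hm
  rw [Ideal.mem_map_C_iff] at hmp ⊢
  intro i
  have := hmp (i + k)
  rwa [Polynomial.coeff_X_pow_mul] at this

theorem mem_mP_of_toS {p : A[X]} (hp : toS p ∈ mB A) : p ∈ mP A := by
  refine mem_mP_of_toT ?_
  have h := Ideal.mem_map_of_mem (LaurentPolynomial.invert (R := A)).toAlgHom.toRingHom hp
  rw [Ideal.map_map] at h
  erw [(LaurentPolynomial.invert (R := A)).toAlgHom.comp_algebraMap] at h
  have e : LaurentPolynomial.invert (toS p) = toT p := involutive_invert _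
  rw [← e]
  exact h

/-- All entries in an ideal. -/
def EntriesIn {R ι κ : Type*} [CommRing R] (I : Ideal R) (M : Matrix ι κ R) : Prop := ∀ i j, M i j ∈ I

theorem EntriesIn.mul_left {R ι κ μ : Type*} [CommRing R] [Fintype κ] {I : Ideal R} {M : Matrix κ μ R}
    (h : EntriesIn I M) (N : Matrix ι κ R) : EntriesIn I (N * M) := fun i j => by
  rw [Matrix.mul_apply]; exact sum_mem fun k _ => Ideal.mul_mem_left _ _ (h k j)

theorem EntriesIn.mul_right {R ι κ μ : Type*} [CommRing R] [Fintype κ] {I : Ideal R} {M : Matrix ι κ R}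
    (h : EntriesIn I M) (N : Matrix κ μ R) : EntriesIn I (M * N) := fun i j => by
  rw [Matrix.mul_apply]; exact sum_mem fun k _ => Ideal.mul_mem_right _ _ (h i k)

theorem EntriesIn.map {ι κ : Type*} {M : Matrix ι κ A[X]} (h : EntriesIn (mP A) M)
    (φ : A[X] →ₐ[A] A[T;T⁻¹]) : EntriesIn (mB A) (M.map φ) := fun i j => map_mem_mB φ (h i j)

theorem EntriesIn.add {R ι κ : Type*} [CommRing R] {I : Ideal R} {M N : Matrix ι κ R}
    (h : EntriesIn I M) (h' : EntriesIn I N) : EntriesIn I (M + N) := fun i j => add_mem (h i j) (h' i j)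

theorem EntriesIn.smul {R ι κ : Type*} [CommRing R] {I : Ideal R} {M : Matrix ι κ R}
    (h : EntriesIn I M) (c : R) : EntriesIn I (c • M) := fun i j => Ideal.mul_mem_left _ _ (h i j)

/-- A lattice at infinity. -/
structure IsLattice {n : ℕ} {q : Type} [Fintype q] (E : Matrix (Fin n) (Fin n) A[T;T⁻¹])
    (H : Matrix (Fin n) q A[T;T⁻¹]) : Prop where
  mul_eq : E * H = H
  sat : ∃ K : Matrix q (Fin n) A[T;T⁻¹], H * K = E
  cap : ∀ w : q → A[X], (∀ i, (H *ᵥ (toS ∘ w)) i ∈ mB A) →
    ∃ w' : q → A[X], (∀ j, w' j ∈ mP A) ∧ H *ᵥ (toS ∘ w') = H *ᵥ (toS ∘ w)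

theorem IsLattice.cap_matrix {n : ℕ} {q μ : Type} [Fintype q] {E : Matrix (Fin n) (Fin n) A[T;T⁻¹]}
    {H : Matrix (Fin n) q A[T;T⁻¹]} (h : IsLattice E H) (W : Matrix q μ A[X])
    (hW : EntriesIn (mB A) (H * W.map toS)) :
    ∃ W' : Matrix q μ A[X], EntriesIn (mP A) W' ∧ H * W'.map toS = H * W.map toS := by
  choose w hw hw' using fun c => h.cap (fun j => W j c) (fun i => hW i c)
  exact ⟨Matrix.of fun j c => w c j, fun j c => hw c j, Matrix.ext fun i c => congrFun (hw' c) i⟩

theorem IsLattice.smul {n : ℕ} {q : Type} [Fintype q] {E : Matrix (Fin n) (Fin n) A[T;T⁻¹]}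
    {H : Matrix (Fin n) q A[T;T⁻¹]} (h : IsLattice E H) (k : ℤ) :
    IsLattice E ((T k : A[T;T⁻¹]) • H) := by
  have hu : ∀ z : A[T;T⁻¹], T (-k) * (T k * z) = z := fun z => by
    rw [← mul_assoc, ← T_add, neg_add_cancel, T_zero, one_mul]
  refine ⟨by rw [Matrix.mul_smul, h.mul_eq], ?_, fun w hw => ?_⟩
  · obtain ⟨K, hK⟩ := h.sat
    refine ⟨(T (-k) : A[T;T⁻¹]) • K, ?_⟩
    rw [Matrix.smul_mul, Matrix.mul_smul, hK, smul_smul, ← T_add, add_neg_cancel, T_zero, one_smul]
  · obtain ⟨w', hw', e⟩ := h.cap w fun i => by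
      have := hw i
      rw [Matrix.smul_mulVec, Pi.smul_apply, smul_eq_mul] at this
      rw [← hu ((H *ᵥ (toS ∘ w)) i)]
      exact Ideal.mul_mem_left _ _ this
    exact ⟨w', hw', by rw [Matrix.smul_mulVec, Matrix.smul_mulVec, e]⟩

/-- Elementary modifications at infinity. -/
theorem exists_modification {n r : ℕ} (E : Matrix (Fin n) (Fin n) A[T;T⁻¹])
    (β : Matrix (Fin n) (Fin r) A[T;T⁻¹]) :
    ∀ (e : ℕ) (q : Type) [Fintype q] (H : Matrix (Fin n) q A[T;T⁻¹]), IsLattice E H →
      (∃ W : Matrix q (Fin r) A[X], EntriesIn (mB A) (β - H * W.map toS)) →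
      (∃ P : Matrix (Fin r) q A[X],
        EntriesIn (mB A) ((T (-(e : ℤ)) : A[T;T⁻¹]) • H - β * P.map toS)) →
      ∃ (q' : Type) (_ : Fintype q') (H' : Matrix (Fin n) q' A[T;T⁻¹]), IsLattice E H' ∧
        (∃ W : Matrix q' (Fin r) A[X], EntriesIn (mB A) (β - H' * W.map toS)) ∧
        ∃ P : Matrix (Fin r) q' A[X], EntriesIn (mB A) (H' - β * P.map toS) := by
  classical
  intro e
  induction e with
  | zero =>
    intro q _ H hH hW hP
    refine ⟨q, inferInstance, H, hH, hW, ?_⟩
    simpa only [Nat.cast_zero, neg_zero, T_zero, one_smul] using hP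
  | succ e ih =>
    intro q _ H hH hW hP
    obtain ⟨W, hW⟩ := hW
    obtain ⟨P, hP⟩ := hP
    set s : A[T;T⁻¹] := T (-1)
    let Sp : Finset (Fin r) → Prop := fun I => ∀ i, ∃ (c : Fin r → A) (z u : q → A[X]),
      (∀ j ∉ I, c j = 0) ∧ (∀ j, z j ∈ mP A) ∧ ∀ a,
        (H * W.map toS) a i = (∑ j, algebraMap A A[T;T⁻¹] (c j) * (H * W.map toS) a j)
          + (H *ᵥ (toS ∘ z)) a + s * (H *ᵥ (toS ∘ u)) a
    have htop : Sp Finset.univ := fun i => ⟨fun j => if j = i then 1 else 0, 0, 0,
      fun j hj => absurd (Finset.mem_univ j) hj, fun _ => zero_mem _, fun a => by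
        have e0 : (toS : A[X] → A[T;T⁻¹]) ∘ (0 : q → A[X]) = 0 := funext fun _ => map_zero toS
        rw [Finset.sum_eq_single i (fun j _ hj => by simp [hj]) (fun h => absurd (Finset.mem_univ i) h)]
        simp [e0]⟩
    obtain ⟨I, hI, hmin⟩ := Finset.exists_min_image (Finset.univ.filter Sp) Finset.card
      ⟨Finset.univ, Finset.mem_filter.mpr ⟨Finset.mem_univ _, htop⟩⟩
    rw [Finset.mem_filter] at hI
    let H' : Matrix (Fin n) ({j // j ∈ I} ⊕ q) A[T;T⁻¹] :=
      Matrix.of fun a => Sum.elim (fun j => (H * W.map toS) a j.1) (fun k => s * H a k)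
    have hH'v : ∀ (v : {j // j ∈ I} ⊕ q → A[T;T⁻¹]) a, (H' *ᵥ v) a =
        (∑ j : {j // j ∈ I}, (H * W.map toS) a j.1 * v (.inl j)) + s * (H *ᵥ (v ∘ .inr)) a := by
      intro v a
      simp only [Matrix.mulVec, dotProduct, Fintype.sum_sum_type, H', Matrix.of_apply, Sum.elim_inl,
        Sum.elim_inr, Finset.mul_sum, mul_assoc, Function.comp_apply]
    refine ih _ H' ⟨?_, ?_, ?_⟩ ?_ ?_
    · ext1 a x
      rcases x with j | k
      · show ∑ b, E a b * (H * W.map toS) b j.1 = (H * W.map toS) a j.1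
        rw [← Matrix.mul_apply, ← Matrix.mul_assoc, hH.mul_eq]
      · show ∑ b, E a b * (s * H b k) = s * H a k
        simp only [mul_left_comm _ s, ← Finset.mul_sum]
        rw [← Matrix.mul_apply, hH.mul_eq]
    · obtain ⟨K, hK⟩ := hH.sat
      refine ⟨Matrix.of fun x b => Sum.elim (fun _ => 0) (fun k => T 1 * K k b) x, ?_⟩
      ext1 a b
      rw [← hK, Matrix.mul_apply, Fintype.sum_sum_type]
      simp only [H', Matrix.of_apply, Sum.elim_inl, Sum.elim_inr, mul_zero, Finset.sum_const_zero,
        zero_add, Matrix.mul_apply]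
      refine Finset.sum_congr rfl fun k _ => ?_
      rw [show s * H a k * (T 1 * K k b) = (T (-1) * T 1) * (H a k * K k b) by simp only [s]; ring,
        ← T_add, neg_add_cancel, T_zero, one_mul]
    · intro w hw
      -- split off constant coefficients
      let c : {j // j ∈ I} → A := fun j => (w (.inl j)).coeff 0
      let u : q → A[X] := fun k => w (.inr k) + ∑ j : {j // j ∈ I}, W k j.1 * Polynomial.divX (w (.inl j))
      have hx : ∀ a, (H' *ᵥ (toS ∘ w)) a =
          (∑ j : {j // j ∈ I}, algebraMap A A[T;T⁻¹] (c j) * (H * W.map toS) a j.1)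
            + s * (H *ᵥ (toS ∘ u)) a := by
        intro a
        rw [hH'v]
        have e1 : ∀ j, toS (w (.inl j)) =
            algebraMap A A[T;T⁻¹] (c j) + s * toS (Polynomial.divX (w (.inl j))) := fun j => by
          conv_lhs => rw [← Polynomial.X_mul_divX_add (w (.inl j))]
          rw [map_add, map_mul, toS_X, ← Polynomial.algebraMap_eq, AlgHom.commutes]
          simp only [c, s]
          ring
        simp only [Matrix.mulVec, dotProduct, Function.comp_apply, u, map_add, map_sum, map_mul,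
          mul_add, Finset.mul_sum, Finset.sum_add_distrib, e1, Matrix.mul_apply, Matrix.map_apply,
          Finset.sum_mul, add_assoc]
        congr 1
        · exact Finset.sum_congr rfl fun j _ => Finset.sum_congr rfl fun k _ => mul_comm _ _
        rw [add_comm]
        congr 1
        rw [Finset.sum_comm]
        exact Finset.sum_congr rfl fun k _ => Finset.sum_congr rfl fun j _ => by ring
      have hc : ∀ j, c j ∈ maximalIdeal A := by
        intro j₀
        by_contra hj₀
        obtain ⟨v, hv⟩ := (IsUnit.exists_left_inv (notMem_maximalIdeal.mp hj₀))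
        -- the combination lies in `𝔪 N + s N`, so `j₀` is redundant
        let z₀ : q → A[X] := fun k => (∑ j : {j // j ∈ I}, W k j.1 * Polynomial.C (c j)) + Polynomial.X * u k
        have hz₀ : ∀ a, (H *ᵥ (toS ∘ z₀)) a = (H' *ᵥ (toS ∘ w)) a := by
          intro a
          rw [hx]
          simp only [Matrix.mulVec, dotProduct, Function.comp_apply, z₀, map_add, map_sum, map_mul,
            mul_add, Finset.mul_sum, Finset.sum_add_distrib, Matrix.mul_apply, Matrix.map_apply, toS_X,
            ← Polynomial.algebraMap_eq, AlgHom.commutes]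
          rw [Finset.sum_comm]
          congr 1
          · exact Finset.sum_congr rfl fun j _ => Finset.sum_congr rfl fun k _ => by ring
          · exact Finset.sum_congr rfl fun k _ => by simp only [s]; ring
        obtain ⟨z₁, hz₁, hz₁'⟩ := hH.cap z₀ fun a => hz₀ a ▸ hw a
        have hkey : ∀ a, (H * W.map toS) a j₀.1 =
            (∑ j : Fin r, algebraMap A A[T;T⁻¹]
              (if hj : j ∈ I.erase j₀.1 then -v * c ⟨j, Finset.mem_of_mem_erase hj⟩ else 0) * (H * W.map toS) a j)
            + algebraMap A A[T;T⁻¹] v * ((H *ᵥ (toS ∘ z₁)) a - s * (H *ᵥ (toS ∘ u)) a) := by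
          intro a
          have h1 := hx a
          rw [← hz₀, ← congrFun hz₁' a] at h1
          let ce : Fin r → A := fun j => if hj : j ∈ I then c ⟨j, hj⟩ else 0
          have e2 : (∑ j : {j // j ∈ I}, algebraMap A A[T;T⁻¹] (c j) * (H * W.map toS) a j.1)
              = algebraMap A A[T;T⁻¹] (c j₀) * (H * W.map toS) a j₀.1
                + ∑ j ∈ I.erase j₀.1, algebraMap A A[T;T⁻¹] (ce j) * (H * W.map toS) a j := by
            rw [show algebraMap A A[T;T⁻¹] (c j₀) = algebraMap A A[T;T⁻¹] (ce j₀.1) by simp [ce, j₀.2],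
              Finset.add_sum_erase I (fun j => algebraMap A A[T;T⁻¹] (ce j) * (H * W.map toS) a j) j₀.2,
              ← Finset.sum_coe_sort I]
            exact Finset.sum_congr rfl fun j _ => by simp [ce, j.2]
          have e3 : (∑ j : Fin r, algebraMap A A[T;T⁻¹]
              (if hj : j ∈ I.erase j₀.1 then -v * c ⟨j, Finset.mem_of_mem_erase hj⟩ else 0) * (H * W.map toS) a j)
              = -algebraMap A A[T;T⁻¹] v *
                ∑ j ∈ I.erase j₀.1, algebraMap A A[T;T⁻¹] (ce j) * (H * W.map toS) a j := by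
            rw [Finset.mul_sum, ← Finset.sum_subset (Finset.subset_univ (I.erase j₀.1))
              (fun j _ hj => by rw [dif_neg hj, map_zero, zero_mul])]
            refine Finset.sum_congr rfl fun j hj => ?_
            simp [ce, hj, Finset.mem_of_mem_erase hj]
            ring
          have hv' : algebraMap A A[T;T⁻¹] v * algebraMap A A[T;T⁻¹] (c j₀) = 1 := by
            rw [← map_mul, hv, map_one]
          rw [e3]
          rw [e2] at h1
          linear_combination (-(H * W.map toS) a j₀.1) * hv' - algebraMap A A[T;T⁻¹] v * h1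
        refine absurd (hmin (I.erase j₀.1) (Finset.mem_filter.mpr ⟨Finset.mem_univ _, fun i => ?_⟩))
          (not_le.mpr (Finset.card_erase_lt_of_mem j₀.2))
        obtain ⟨ci, zi, ui, hci, hzi, hi⟩ := hI.2 i
        refine ⟨fun j => (if j = j₀.1 then 0 else ci j) + ci j₀.1 *
            (if hj : j ∈ I.erase j₀.1 then -v * c ⟨j, Finset.mem_of_mem_erase hj⟩ else 0),
          fun k => zi k + Polynomial.C (ci j₀.1 * v) * z₁ k,
          fun k => ui k - Polynomial.C (ci j₀.1 * v) * u k, fun j hj => ?_,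
          fun k => add_mem (hzi k) (Ideal.mul_mem_left _ _ (hz₁ k)), fun a => ?_⟩
        · dsimp only
          rw [dif_neg hj, mul_zero, add_zero]
          split
          · rfl
          · rename_i hne
            exact hci j fun hjI => hj (Finset.mem_erase.mpr ⟨hne, hjI⟩)
        · have e4 : ∑ j, algebraMap A A[T;T⁻¹] ((if j = j₀.1 then 0 else ci j) + ci j₀.1 *
              (if hj : j ∈ I.erase j₀.1 then -v * c ⟨j, Finset.mem_of_mem_erase hj⟩ else 0))
                * (H * W.map toS) a j
              = (∑ j, algebraMap A A[T;T⁻¹] (ci j) * (H * W.map toS) a j)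
                - algebraMap A A[T;T⁻¹] (ci j₀.1) * (H * W.map toS) a j₀.1
                + algebraMap A A[T;T⁻¹] (ci j₀.1) * ∑ j, algebraMap A A[T;T⁻¹]
                  (if hj : j ∈ I.erase j₀.1 then -v * c ⟨j, Finset.mem_of_mem_erase hj⟩ else 0)
                    * (H * W.map toS) a j := by
            simp only [map_add, map_mul, add_mul, Finset.sum_add_distrib, Finset.mul_sum, mul_assoc]
            congr 1
            rw [eq_sub_iff_add_eq, ← Finset.sum_erase_add _ _ (Finset.mem_univ j₀.1),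
              ← Finset.sum_erase_add Finset.univ (fun j => algebraMap A A[T;T⁻¹] (ci j) * _)
                (Finset.mem_univ j₀.1)]
            simp only [if_pos, map_zero, zero_mul, add_zero]
            congr 1
            exact Finset.sum_congr rfl fun j hj => by rw [if_neg (Finset.ne_of_mem_erase hj)]
          have e5 : ∀ (f g : q → A[X]) (d : A), (H *ᵥ (toS ∘ fun k => f k + Polynomial.C d * g k)) a =
              (H *ᵥ (toS ∘ f)) a + algebraMap A A[T;T⁻¹] d * (H *ᵥ (toS ∘ g)) a := fun f g d => by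
            simp only [Matrix.mulVec, dotProduct, Function.comp_apply, map_add, map_mul,
              ← Polynomial.algebraMap_eq, AlgHom.commutes, mul_add, Finset.sum_add_distrib, Finset.mul_sum]
            congr 1
            exact Finset.sum_congr rfl fun k _ => by ring
          rw [hi a, e4, show (fun k => ui k - Polynomial.C (ci j₀.1 * v) * u k) =
            (fun k => ui k + Polynomial.C (-(ci j₀.1 * v)) * u k) from funext fun k => by rw [map_neg]; ring,
            e5, e5, map_neg, map_mul]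
          linear_combination (algebraMap A A[T;T⁻¹] (ci j₀.1)) * hkey a
      obtain ⟨u', hu', hu''⟩ := hH.cap u fun a => by
        have h1 := hw a
        rw [hx, Ideal.add_mem_iff_right _ (sum_mem fun j _ =>
          Ideal.mul_mem_right _ _ (Ideal.mem_map_of_mem _ (hc j)))] at h1
        exact (Ideal.unit_mul_mem_iff_mem _ (LaurentPolynomial.isUnit_T (-1))).mp h1
      refine ⟨Sum.elim (fun j => Polynomial.C (c j)) u', ?_, funext fun a => ?_⟩
      · rintro (j | k)
        · exact Ideal.mem_map_of_mem _ (hc j)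
        · exact hu' k
      · rw [hx, hH'v, show (toS ∘ Sum.elim (fun j => Polynomial.C (c j)) u') ∘ Sum.inr = toS ∘ u' from rfl,
          hu'']
        congr 1
        refine Finset.sum_congr rfl fun j _ => ?_
        rw [Function.comp_apply, Sum.elim_inl, ← Polynomial.algebraMap_eq, AlgHom.commutes, mul_comm]
    · choose c z u hc hz hi using hI.2
      refine ⟨Matrix.of fun x i => Sum.elim (fun j => Polynomial.C (c i j.1)) (u i) x, fun a i => ?_⟩
      have h2 : (H * W.map toS) a i -
          (H' * (Matrix.of fun x i => Sum.elim (fun j : {j // j ∈ I} => Polynomial.C (c i j.1)) (u i) x).map toS) a i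
          = (H *ᵥ (toS ∘ z i)) a := by
        rw [show (H' * (Matrix.of fun x i => Sum.elim (fun j : {j // j ∈ I} => Polynomial.C (c i j.1)) (u i) x).map toS) a i
          = (H' *ᵥ (toS ∘ Sum.elim (fun j : {j // j ∈ I} => Polynomial.C (c i j.1)) (u i))) a from rfl,
          hH'v, hi i a,
          ← Finset.sum_subset (Finset.subset_univ I) (fun j _ hj => by rw [hc i j hj, map_zero, zero_mul]),
          ← Finset.sum_coe_sort I]
        simp only [Function.comp_def, Sum.elim_inl, Sum.elim_inr, ← Polynomial.algebraMap_eq, AlgHom.commutes,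
          mul_comm ((H * W.map toS) a _)]
        ring
      have hzm : (H *ᵥ (toS ∘ z i)) a ∈ mB A :=
        sum_mem fun k _ => Ideal.mul_mem_left _ _ (map_mem_mB toS (hz i k))
      have h3 : (β - H * W.map toS) a i ∈ mB A := hW a i
      rw [Matrix.sub_apply] at h3 ⊢
      rw [← sub_add_sub_cancel _ ((H * W.map toS) a i), h2]
      exact add_mem h3 hzm
    · refine ⟨Matrix.of fun i => Sum.elim
        (fun j => if i = j.1 then Polynomial.X ^ e else 0) (fun k => P i k), ?_⟩
      rintro a (j | k)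
      · have h1 : (β * (Matrix.of fun i => Sum.elim
            (fun j : {j // j ∈ I} => if i = j.1 then Polynomial.X ^ e else 0) (fun k => P i k)).map toS) a (.inl j)
            = β a j.1 * T (-(e : ℤ)) := by
          rw [Matrix.mul_apply, Finset.sum_eq_single j.1 (fun i _ hi => by simp [hi])
            (fun h => absurd (Finset.mem_univ _) h)]
          simp [toS_X_pow]
        rw [Matrix.sub_apply, h1, Matrix.smul_apply, smul_eq_mul,
          show H' a (.inl j) = (H * W.map toS) a j.1 from rfl, mul_comm (β a j.1), ← mul_sub]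
        refine Ideal.mul_mem_left _ _ ?_
        have := neg_mem (hW a j.1)
        rwa [Matrix.sub_apply, neg_sub] at this
      · have h1 := hP a k
        rw [Matrix.sub_apply, Matrix.smul_apply, smul_eq_mul] at h1 ⊢
        rw [show H' a (.inr k) = s * H a k from rfl, ← mul_assoc, ← T_add,
          show -(e : ℤ) + -1 = -((e + 1 : ℕ) : ℤ) by push_cast; ring]
        convert h1 using 2
        simp [Matrix.mul_apply]

theorem eq_top_of_monic {J : Ideal A[X]} {p h : A[X]} (hp : p.Monic) (hpJ : p ∈ J) (hh : h ∈ J)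
    (h1 : h - 1 ∈ mP A) : J = ⊤ := by
  haveI := hp.finite_quotient
  have hle' : Ideal.span {p} ≤ J := (Ideal.span_singleton_le_iff_mem J).mpr hpJ
  haveI : Module.Finite A (A[X] ⧸ J) :=
    Module.Finite.of_surjective (Ideal.Quotient.factorₐ A hle').toLinearMap
      (Ideal.Quotient.factor_surjective hle')
  have hle : (⊤ : Submodule A (A[X] ⧸ J)) ≤ ⊥ ⊔ maximalIdeal A • ⊤ := by
    rw [bot_sup_eq, Ideal.smul_top_eq_map]
    intro x _
    show x ∈ (maximalIdeal A).map (algebraMap A (A[X] ⧸ J))
    have hone : (1 : A[X] ⧸ J) ∈ (maximalIdeal A).map (algebraMap A (A[X] ⧸ J)) := by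
      have e : (1 : A[X] ⧸ J) = -Ideal.Quotient.mk J (h - 1) := by
        rw [map_sub, Ideal.Quotient.eq_zero_iff_mem.mpr hh, map_one, zero_sub, neg_neg]
      rw [e, show algebraMap A (A[X] ⧸ J) = (Ideal.Quotient.mk J).comp Polynomial.C from rfl,
        ← Ideal.map_map]
      exact neg_mem (Ideal.mem_map_of_mem _ h1)
    rw [(Ideal.eq_top_iff_one _).mpr hone]
    trivial
  have h0 := Submodule.le_of_le_smul_of_le_jacobson_bot Module.Finite.fg_top
    (maximalIdeal_le_jacobson ⊥) hle
  rw [Ideal.eq_top_iff_one, ← Ideal.Quotient.eq_zero_iff_mem]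
  exact (Submodule.mem_bot A).mp (h0 Submodule.mem_top)

theorem isUnit_coeff_zero_of_sub_one_mem {h : A[X]} (h1 : h - 1 ∈ mP A) : IsUnit (h.coeff 0) := by
  have := Ideal.mem_map_C_iff.mp h1 0
  rw [Polynomial.coeff_sub, Polynomial.coeff_one_zero] at this
  by_contra hn
  exact (maximalIdeal.isMaximal A).ne_top ((Ideal.eq_top_iff_one _).mpr
    (by simpa using sub_mem ((mem_maximalIdeal _).mpr hn) this))

theorem eq_zero_of_mul_eq_zero_of_isUnit_coeff_zero {h p : A[X]} (hu : IsUnit (h.coeff 0))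
    (hp : h * p = 0) : p = 0 := by
  ext k
  induction k using Nat.strong_induction_on with
  | _ k ih =>
    have h0 := congrArg (fun f => f.coeff k) hp
    simp only [Polynomial.coeff_mul, Polynomial.coeff_zero] at h0
    rw [Finset.sum_eq_single (0, k) (fun x hx hne => ?_) (fun hn => absurd (by simp) hn)] at h0
    · rw [Polynomial.coeff_zero]; exact hu.mul_right_eq_zero.mp h0
    · rw [Finset.mem_antidiagonal] at hx
      have : x.2 < k := by
        rcases Nat.eq_zero_or_pos x.1 with h' | h'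
        · exact absurd (Prod.ext h' (by omega)) hne
        · omega
      rw [ih _ this, Polynomial.coeff_zero, mul_zero]

theorem det_one_sub_sub_one_mem {ι : Type*} [Fintype ι] [DecidableEq ι] {R : Matrix ι ι A[X]}
    (h : EntriesIn (mP A) R) : (1 - R).det - 1 ∈ mP A := by
  have e : (Ideal.Quotient.mk (mP A)).mapMatrix (1 - R) = 1 := by
    ext1 i j
    rcases eq_or_ne i j with rfl | hij
    · simp [Ideal.Quotient.eq_zero_iff_mem.mpr (h i i)]
    · simp [Ideal.Quotient.eq_zero_iff_mem.mpr (h i j), Matrix.one_apply_ne hij]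
  rw [← Ideal.Quotient.eq, RingHom.map_det, e, Matrix.det_one, map_one]

end Local

end L02.CAlg.Horrocks
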